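import Mathlib
import Cfsg.Prelude.Def_Solvable
import Cfsg.Agent.Lib.Cores.Basic
import Cfsg.Agent.Lib.Transfer.Frobenius

/-!
# Primary components of nilpotent subgroups
-/

set_option autoImplicit false
set_option linter.style.haveILetI false

open scoped Pointwise

namespace Cfsg.Agent.Lib.KegelWielandt

universe u

variable {G : Type u} [Group G] {p q : ℕ} {A X : Subgroup G}

/-- The `p`-component of a (nilpotent) subgroup, as a subgroup of the whole group. -/
def comp (p : ℕ) (A : Subgroup G) : Subgroup G := (Cfsg.pCore p A).map A.subtype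

theorem mem_conj {g x : G} : x ∈ MulAut.conj g • X ↔ g⁻¹ * x * g ∈ X := by
  rw [Subgroup.mem_pointwise_smul_iff_inv_smul_mem, ← map_inv]
  simp [MulAut.smul_def]

theorem conj_mem_iff {g x : G} : g * x * g⁻¹ ∈ MulAut.conj g • X ↔ x ∈ X := by
  rw [mem_conj]; simp [mul_assoc]

theorem comp_le : comp p A ≤ A := Subgroup.map_subtype_le _

theorem le_normalizer_comp : A ≤ Subgroup.normalizer (comp p A : Set G) := by
  refine le_trans ?_ (Subgroup.le_normalizer_map A.subtype)
  rw [Subgroup.normalizer_eq_top, ← MonoidHom.range_eq_map, Subgroup.range_subtype]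

variable [Finite G]

theorem isPGroup_comp : IsPGroup p (comp p A) := (Cores.pCore_isPGroup p).map _

theorem pCore_eq_sylow [Fact p.Prime] (hA : Group.IsNilpotent A) (S : Sylow p A) :
    Cfsg.pCore p A = (S : Subgroup A) := by
  haveI := hA
  exact Cores.pCore_eq_of_normal_sylow S

theorem card_comp [Fact p.Prime] (hA : Group.IsNilpotent A) :
    Nat.card (comp p A) = p ^ (Nat.card A).factorization p := by
  obtain ⟨S⟩ := (inferInstance : Nonempty (Sylow p A))
  rw [comp, Subgroup.card_map_of_injective A.subtype_injective, pCore_eq_sylow hA S]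
  exact S.card_eq_multiplicity

theorem le_comp [Fact p.Prime] (hA : Group.IsNilpotent A) (hX : X ≤ A) (hp : IsPGroup p X) :
    X ≤ comp p A := by
  haveI := hA
  obtain ⟨S, hS⟩ := (hp.comap_subtype (K := A)).exists_le_sylow
  have h1 := Subgroup.map_mono (f := A.subtype) hS
  rw [Subgroup.map_comap_eq_self (by rwa [Subgroup.range_subtype]), ← pCore_eq_sylow hA S] at h1
  exact h1

theorem mem_comp [Fact p.Prime] (hA : Group.IsNilpotent A) {x : G} (hx : x ∈ A) {k : ℕ}
    (hk : orderOf x = p ^ k) : x ∈ comp p A :=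
  le_comp hA (Subgroup.zpowers_le.mpr hx) (IsPGroup.of_card (by rw [Nat.card_zpowers, hk]))
    (Subgroup.mem_zpowers x)

theorem orderOf_mem_comp [Fact p.Prime] {x : G} (hx : x ∈ comp p A) : ∃ k, orderOf x = p ^ k := by
  obtain ⟨k, hk⟩ := IsPGroup.iff_orderOf.mp (isPGroup_comp (p := p) (A := A)) ⟨x, hx⟩
  exact ⟨k, by rwa [Subgroup.orderOf_mk] at hk⟩

theorem commute_of_coprime (hA : Group.IsNilpotent A) {a b : G} (ha : a ∈ A) (hb : b ∈ A)
    (h : (orderOf a).Coprime (orderOf b)) : a * b = b * a := by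
  haveI := hA
  exact congrArg Subtype.val (Transfer.Frobenius.commute_of_coprime_of_isNilpotent (G := A)
    (a := ⟨a, ha⟩) (b := ⟨b, hb⟩) (by rwa [Subgroup.orderOf_mk, Subgroup.orderOf_mk]))

/-- Components for different primes centralise each other. -/
theorem comp_le_centralizer [Fact p.Prime] [Fact q.Prime] (hA : Group.IsNilpotent A) (hpq : p ≠ q)
    (hX : X ≤ A) (hXp : IsPGroup q X) : comp p A ≤ Subgroup.centralizer (X : Set G) := by
  intro a ha
  rw [Subgroup.mem_centralizer_iff]
  intro x hx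
  obtain ⟨i, hi⟩ := orderOf_mem_comp ha
  obtain ⟨j, hj⟩ := IsPGroup.iff_orderOf.mp hXp ⟨x, hx⟩
  rw [Subgroup.orderOf_mk] at hj
  refine (commute_of_coprime hA (comp_le ha) (hX hx) ?_).symm
  rw [hi, hj]
  exact ((Nat.coprime_primes Fact.out Fact.out).mpr hpq).pow i j

/-- A nilpotent subgroup is generated by its components. -/
theorem le_of_comp_le (hA : Group.IsNilpotent A)
    (h : ∀ p : ℕ, p.Prime → p ∣ Nat.card A → comp p A ≤ X) : A ≤ X := by
  refine inf_eq_left.mp (Subgroup.eq_of_le_of_card_ge (H := A ⊓ X) inf_le_left ?_)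
  refine Nat.le_of_dvd Nat.card_pos ((Nat.factorization_le_iff_dvd Nat.card_pos.ne'
    Nat.card_pos.ne').mp fun p => ?_)
  by_cases hp : p.Prime ∧ p ∣ Nat.card A
  · obtain ⟨hp, hd⟩ := hp
    haveI := Fact.mk hp
    have h1 : Nat.card (comp p A) ∣ Nat.card ↥(A ⊓ X) :=
      Subgroup.card_dvd_of_le (le_inf comp_le (h p hp hd))
    rw [card_comp hA, hp.pow_dvd_iff_le_factorization Nat.card_pos.ne'] at h1
    exact h1
  · have : (Nat.card A).factorization p = 0 := by
      rw [Nat.factorization_eq_zero_iff]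
      by_cases hpp : p.Prime
      · exact Or.inr (Or.inl fun hd => hp ⟨hpp, hd⟩)
      · exact Or.inl hpp
    omega

theorem comp_ne_bot [Fact p.Prime] (hA : Group.IsNilpotent A) (hp : p ∣ Nat.card A) :
    comp p A ≠ ⊥ := by
  intro h
  have h1 := card_comp (p := p) hA
  rw [h, Subgroup.card_bot] at h1
  have h2 : 0 < (Nat.card A).factorization p :=
    (Fact.out : p.Prime).factorization_pos_of_dvd Nat.card_pos.ne' hp
  exact (Nat.one_lt_pow h2.ne' (Fact.out : p.Prime).one_lt).ne h1

/-- Every component contains an element of prime order central in the whole subgroup. -/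
theorem exists_central [Fact p.Prime] (hA : Group.IsNilpotent A) (hp : p ∣ Nat.card A) :
    ∃ z ∈ comp p A, orderOf z = p ∧ ∀ a ∈ A, a * z = z * a := by
  haveI : Nontrivial (comp p A) := (Subgroup.nontrivial_iff_ne_bot _).mpr (comp_ne_bot hA hp)
  haveI := (isPGroup_comp (p := p) (A := A)).center_nontrivial
  have hd : p ∣ Nat.card (Subgroup.center (comp p A)) :=
    ((isPGroup_comp (p := p) (A := A)).to_subgroup _).card_eq_or_dvd.resolve_left
      (Finite.one_lt_card).ne'
  obtain ⟨⟨⟨z, hz⟩, hzc⟩, hzo⟩ := exists_prime_orderOf_dvd_card' p hd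
  rw [Subgroup.orderOf_mk, Subgroup.orderOf_mk] at hzo
  refine ⟨z, hz, hzo, fun a ha => ?_⟩
  haveI := hA
  obtain ⟨a1, a2, h1, h2, he, -, ⟨k, hk⟩, hcop⟩ :=
    Transfer.PResidual.exists_pPart_mul_pPrimePart (p := p) (⟨a, ha⟩ : A) (isOfFinOrder_of_finite _)
  obtain ⟨i, -, hi⟩ := (Nat.dvd_prime_pow Fact.out).mp (orderOf_dvd_of_pow_eq_one hk)
  rw [← Subgroup.orderOf_coe] at hi
  have ha1 : (a1 : G) ∈ comp p A := mem_comp hA a1.2 hi
  have e1 : (a1 : G) * z = z * a1 := congrArg Subtype.val (Subgroup.mem_center_iff.mp hzc ⟨_, ha1⟩)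
  have e2 : (a2 : G) * z = z * a2 := by
    refine commute_of_coprime hA a2.2 (comp_le hz) ?_
    rw [hzo, Subgroup.orderOf_coe]
    exact hcop
  rw [show a = (a1 : G) * a2 from (congrArg Subtype.val he).symm, mul_assoc, e2, ← mul_assoc, e1,
    mul_assoc]

end Cfsg.Agent.Lib.KegelWielandt
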