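import Mathlib
import Cfsg.Agent.Lib.KegelWielandt.Components
import Cfsg.Agent.Lib.Products
import Cfsg.Agent.Lib.Hall.Basic
import Cfsg.Agent.Lib.Transfer.Fusion
import Cfsg.Agent.Lib.Transfer.PResidual
import Cfsg.Agent.Lib.Induced.Burnside
import Cfsg.Agent.S0561
import Cfsg.Agent.S0562
import Cfsg.Agent.S0566
import Cfsg.Agent.S0581

/-!
# No simple group is a product of two nilpotent subgroups of coprime orders

The proof runs through the minimal counterexample: an insoluble simple group `G = AB`, in which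
every proper factorised subgroup is soluble.  `M = N(A)` turns out to contain the centralisers of
all elements of prime order of `A`, which makes `A` meet its conjugates by elements outside `M`
trivially, so that `|A| ≤ |B|`; by symmetry `|A| = |B|`, absurd.
-/

set_option autoImplicit false
set_option linter.style.haveILetI false
set_option linter.unusedSectionVars false

open scoped Pointwise

namespace Cfsg.Agent.Lib.KegelWielandt

universe u

variable {G : Type u} [Group G] {A B : Subgroup G}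

theorem conj_smul_eq_of_mem_normalizer {X : Subgroup G} {g : G}
    (hg : g ∈ Subgroup.normalizer (X : Set G)) : MulAut.conj g • X = X := by
  ext x
  rw [mem_conj]
  exact (Subgroup.mem_normalizer_iff''.mp hg x).symm

theorem mem_normalizer_conj {S : Subgroup G} {g x : G}
    (h : g⁻¹ * x * g ∈ Subgroup.normalizer (S : Set G)) :
    x ∈ Subgroup.normalizer ((MulAut.conj g • S : Subgroup G) : Set G) := by
  rw [Subgroup.mem_normalizer_iff]
  intro y
  rw [mem_conj, mem_conj, Subgroup.mem_normalizer_iff.mp h (g⁻¹ * y * g)]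
  group

theorem conj_mem_comp {p : ℕ} {X : Subgroup G} {x y : G} (hx : x ∈ X) (hy : y ∈ comp p X) :
    x * y * x⁻¹ ∈ comp p X :=
  (Subgroup.mem_normalizer_iff.mp (le_normalizer_comp hx) y).mp hy

theorem conj_smul_top (g : G) : MulAut.conj g • (⊤ : Subgroup G) = ⊤ :=
  Subgroup.map_top_of_surjective _ (MulEquiv.surjective _)

variable [Finite G]

theorem mem_normalizer_of_conj_mem {X : Subgroup G} {g : G}
    (h : ∀ x ∈ X, g * x * g⁻¹ ∈ X) : g ∈ Subgroup.normalizer (X : Set G) :=
  haveI : Finite (X : Set G) := Set.toFinite _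
  Subgroup.mem_normalizer_fintype h

theorem exists_pow_prime_order {x : G} {q : ℕ} (hd : q ∣ orderOf x) :
    ∃ k : ℕ, orderOf (x ^ k) = q :=
  ⟨orderOf x / q, orderOf_pow_orderOf_div (isOfFinOrder_of_finite x).orderOf_pos.ne' hd⟩

/-- An element of prime power order commuting with all cores of a soluble subgroup is in the core
of its prime. -/
theorem mem_comp_of_commutes {H : Subgroup G} [Group.IsSolvable H] {p k : ℕ} [Fact p.Prime] {x : G}
    (hx : x ∈ H) (hk : orderOf x = p ^ k)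
    (hc : ∀ t : ℕ, t.Prime → ∀ y ∈ comp t H, x * y = y * x) : x ∈ comp p H := by
  have hle : Cfsg.fittingSubgroup H ≤ Subgroup.centralizer {(⟨x, hx⟩ : H)} := by
    rw [Cores.fittingSubgroup_eq_iSup_pCore]
    refine iSup_le fun t y hy => ?_
    rw [Subgroup.mem_centralizer_singleton_iff]
    exact Subtype.ext (hc t t.2 y (Subgroup.mem_map_of_mem _ hy)).symm
  have hF : (⟨x, hx⟩ : H) ∈ Cfsg.fittingSubgroup H := by
    refine Cores.centralizer_fittingSubgroup_le ?_
    rw [Subgroup.mem_centralizer_iff]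
    exact fun y hy => Subgroup.mem_centralizer_singleton_iff.mp (hle hy)
  have h1 : (⟨x, hx⟩ : H) ∈ comp p (Cfsg.fittingSubgroup H) :=
    mem_comp Cores.fittingSubgroup_isNilpotent hF (k := k) (by rwa [Subgroup.orderOf_mk])
  rw [comp, Cores.map_subtype_pCore] at h1
  exact Subgroup.mem_map_of_mem H.subtype h1.2

/-- A normal subgroup of a factorised subgroup of order prime to `|A|` lies in `B`. -/
theorem le_right_of_coprime {N H : Subgroup G} (hNH : N ≤ H)
    (hn : H ≤ Subgroup.normalizer (N : Set G))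
    (hH : ∀ x ∈ H, ∃ a ∈ H ⊓ A, ∃ b ∈ H ⊓ B, x = a * b)
    (hco : (Nat.card N).Coprime (Nat.card A)) (hAB : (Nat.card A).Coprime (Nat.card B)) :
    N ≤ B := by
  intro x hx
  obtain ⟨a, ha, b, hb, he⟩ := hH x (hNH hx)
  haveI : (N.subgroupOf H).Normal := Subgroup.normal_subgroupOf_of_le_normalizer hn
  set T := B.subgroupOf H ⊔ N.subgroupOf H with hT
  have haT : (⟨a, ha.1⟩ : H) ∈ T := by
    have e : (⟨a, ha.1⟩ : H) = ⟨x, hNH hx⟩ * ⟨b, hb.1⟩⁻¹ := by
      refine Subtype.ext ?_
      show a = x * b⁻¹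
      rw [he, mul_inv_cancel_right]
    rw [e]
    exact mul_mem (Subgroup.mem_sup_right (Subgroup.mem_subgroupOf.mpr hx))
      (inv_mem (Subgroup.mem_sup_left (Subgroup.mem_subgroupOf.mpr hb.2)))
  have h1 : orderOf (⟨a, ha.1⟩ : H) ∣ Nat.card B * Nat.card N :=
    (T.orderOf_dvd_natCard haT).trans ((Cores.card_sup_dvd_mul _ _).trans
      (mul_dvd_mul (Subgroup.card_comap_dvd_of_injective B _ H.subtype_injective)
        (Subgroup.card_comap_dvd_of_injective N _ H.subtype_injective)))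
  rw [Subgroup.orderOf_mk] at h1
  have h2 : orderOf a = 1 := Nat.eq_one_of_dvd_coprimes
    (Nat.Coprime.mul_right hAB hco.symm) (A.orderOf_dvd_natCard ha.2) h1
  rw [orderOf_eq_one_iff] at h2
  rw [he, h2, one_mul]
  exact hb.2

/-- The minimal counterexample. -/
structure Setup (A B : Subgroup G) : Prop where
  nA : Group.IsNilpotent A
  nB : Group.IsNilpotent B
  cop : (Nat.card A).Coprime (Nat.card B)
  fac : ∀ g : G, ∃ a ∈ A, ∃ b ∈ B, g = a * b
  simple : ∀ N : Subgroup G, N.Normal → N = ⊥ ∨ N = ⊤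
  notsolv : ¬ Group.IsSolvable G
  ind : ∀ X : Subgroup G, X ≠ ⊤ → (∀ x ∈ X, ∃ a ∈ X ⊓ A, ∃ b ∈ X ⊓ B, x = a * b) →
    Group.IsSolvable X
  twoA : ∀ p : ℕ, ∃ r : ℕ, r.Prime ∧ r ≠ p ∧ r ∣ Nat.card A
  twoB : ∀ p : ℕ, ∃ r : ℕ, r.Prime ∧ r ≠ p ∧ r ∣ Nat.card B

namespace Setup

theorem symm (h : Setup A B) : Setup B A where
  nA := h.nB
  nB := h.nA
  cop := h.cop.symm
  fac := Products.swap h.fac
  simple := h.simple
  notsolv := h.notsolv
  ind X hX hf := by
    refine h.ind X hX fun x hx => ?_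
    obtain ⟨b, hb, a, ha, he⟩ := hf x⁻¹ (inv_mem hx)
    exact ⟨a⁻¹, inv_mem ha, b⁻¹, inv_mem hb, by rw [← mul_inv_rev, ← he, inv_inv]⟩
  twoA := h.twoB
  twoB := h.twoA

theorem ne_top (h : Setup A B) : A ≠ ⊤ := by
  rintro rfl
  haveI := h.nA
  haveI : Group.IsNilpotent G := Group.nilpotent_of_mulEquiv Subgroup.topEquiv
  exact h.notsolv inferInstance

theorem ne_bot (h : Setup A B) : A ≠ ⊥ := by
  intro hA
  obtain ⟨r, hr, -, hd⟩ := h.twoA 0
  rw [hA, Subgroup.card_bot, Nat.dvd_one] at hd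
  exact hr.one_lt.ne' hd

theorem normalizer_ne_top (h : Setup A B) {J : Subgroup G} (h0 : J ≠ ⊥) (h1 : J ≠ ⊤) :
    Subgroup.normalizer (J : Set G) ≠ ⊤ :=
  fun hn => (h.simple J (Subgroup.normalizer_eq_top_iff.mp hn)).elim h0 h1

theorem centralizer_ne_top (h : Setup A B) {y : G} (hy : y ≠ 1) :
    Subgroup.centralizer ({y} : Set G) ≠ ⊤ := by
  intro hc
  have hm : y ∈ Subgroup.center G := Subgroup.mem_center_iff.mpr fun g =>
    Subgroup.mem_centralizer_singleton_iff.mp (hc ▸ Subgroup.mem_top g)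
  rcases h.simple (Subgroup.center G) inferInstance with h0 | h1
  · exact hy (Subgroup.mem_bot.mp (h0 ▸ hm))
  · exact h.notsolv (Group.isSolvable_of_comm fun a b =>
      (Subgroup.mem_center_iff.mp (h1 ▸ Subgroup.mem_top b) a))

theorem card_mul (h : Setup A B) : Nat.card A * Nat.card B = Nat.card G := by
  rw [Products.card_mul_card h.fac, Hall.inf_eq_bot_of_coprime h.cop, Subgroup.card_bot, mul_one]

theorem index_eq (h : Setup A B) : A.index = Nat.card B :=
  Nat.eq_of_mul_eq_mul_left (Nat.card_pos (α := A)) (A.card_mul_index.trans h.card_mul.symm)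

theorem exists_sylow (h : Setup A B) {p : ℕ} [Fact p.Prime] (hp : p ∣ Nat.card A) :
    ∃ P : Sylow p G, (P : Subgroup G) = comp p A := by
  refine ⟨Sylow.ofCard (comp p A) ?_, rfl⟩
  rw [card_comp h.nA, ← h.card_mul, Nat.factorization_mul Nat.card_pos.ne' Nat.card_pos.ne',
    Finsupp.add_apply, Nat.factorization_eq_zero_of_not_dvd (fun hd =>
      (Fact.out : p.Prime).one_lt.ne' (Nat.eq_one_of_dvd_coprimes h.cop hp hd)), add_zero]

theorem fac_normalizer (h : Setup A B) {A₀ B₀ : Subgroup G} (hA₀ : A₀ ≤ A)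
    (hA : A ≤ Subgroup.normalizer (A₀ : Set G)) (hB₀ : B₀ ≤ B)
    (hB : B ≤ Subgroup.normalizer (B₀ : Set G)) :
    ∀ g ∈ Subgroup.normalizer ((A₀ ⊔ B₀ : Subgroup G) : Set G),
      ∃ a ∈ Subgroup.normalizer ((A₀ ⊔ B₀ : Subgroup G) : Set G) ⊓ A,
      ∃ b ∈ Subgroup.normalizer ((A₀ ⊔ B₀ : Subgroup G) : Set G) ⊓ B, g = a * b :=
  Cfsg.Agent.S0562.result A B A₀ B₀ h.fac hA₀ (Subgroup.normal_subgroupOf_of_le_normalizer hA)
    hB₀ (Subgroup.normal_subgroupOf_of_le_normalizer hB)

/-- No proper subgroup contains components of both factors. -/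
theorem not_both (h : Setup A B) {r s : ℕ} [Fact r.Prime] [Fact s.Prime] (hr : r ∣ Nat.card A)
    (hs : s ∣ Nat.card B) {X : Subgroup G} (hX : X ≠ ⊤) (hrX : comp r A ≤ X)
    (hsX : comp s B ≤ X) : False := by
  set J := comp r A ⊔ comp s B with hJ
  have hJX : J ≤ X := sup_le hrX hsX
  set N := Subgroup.normalizer (J : Set G) with hN
  have hJN : J ≤ N := Subgroup.le_normalizer
  have hNt : N ≠ ⊤ := h.normalizer_ne_top
    (fun h0 => comp_ne_bot h.nA hr (le_bot_iff.mp (h0 ▸ le_sup_left)))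
    (fun h1 => hX (top_le_iff.mp (h1 ▸ hJX)))
  have hfN := h.fac_normalizer (A₀ := comp r A) (B₀ := comp s B) comp_le le_normalizer_comp comp_le
    le_normalizer_comp
  rw [← hJ, ← hN] at hfN
  haveI := h.ind N hNt hfN
  obtain ⟨S, hS⟩ := Cfsg.Agent.S0561.result (A.subgroupOf N) (B.subgroupOf N)
    ((comp r A).subgroupOf N) ((comp s B).subgroupOf N)
    (fun g => by
      obtain ⟨a, ha, b, hb, he⟩ := hfN g g.2
      exact ⟨⟨a, ha.1⟩, ha.2, ⟨b, hb.1⟩, hb.2, Subtype.ext he⟩)
    (Subgroup.comap_mono comp_le)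
    (Subgroup.normal_subgroupOf_of_le_normalizer
      ((Subgroup.comap_mono (le_normalizer_comp)).trans (Subgroup.le_normalizer_comap _)))
    (Subgroup.comap_mono comp_le)
    (Subgroup.normal_subgroupOf_of_le_normalizer
      ((Subgroup.comap_mono (le_normalizer_comp)).trans (Subgroup.le_normalizer_comap _)))
    (by
      obtain ⟨P, hP⟩ := h.exists_sylow hr
      rw [← hP, ← Sylow.coe_subtype P (hP ▸ le_trans le_sup_left hJN)]
      exact Sylow.card_coprime_index _)
    (by
      obtain ⟨P, hP⟩ := h.symm.exists_sylow hs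
      rw [← hP, ← Sylow.coe_subtype P (hP ▸ le_trans le_sup_right hJN)]
      exact Sylow.card_coprime_index _)
    1 1
  rw [map_one, one_smul, one_smul] at hS
  have hT : ((S.map N.subtype : Subgroup G) : Set G) = (comp r A : Set G) * (comp s B : Set G) := by
    rw [Subgroup.coe_map, hS, Set.image_mul, ← Subgroup.coe_map, ← Subgroup.coe_map,
      Subgroup.map_subgroupOf_eq_of_le (le_trans le_sup_left hJN),
      Subgroup.map_subgroupOf_eq_of_le (le_trans le_sup_right hJN)]
  have hTt : S.map N.subtype ≠ ⊤ := fun ht =>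
    hNt (top_le_iff.mp (ht ▸ Subgroup.map_subtype_le S))
  obtain ⟨K, hK, hKt, hor⟩ := Cfsg.Agent.S0566.aux (comp r A) (comp s B) (comp_ne_bot h.nA hr)
    (comp_ne_bot h.nB hs) fun x => by
      obtain ⟨a, ha, b, hb, rfl⟩ := h.fac x
      refine ⟨MulAut.conj a • S.map N.subtype, fun ht => hTt ?_, ?_⟩
      · rw [eq_inv_smul_iff.mpr ht, ← map_inv, conj_smul_top]
      · rw [Subgroup.coe_pointwise_smul, hT, smul_mul', ← Subgroup.coe_pointwise_smul,
          ← Subgroup.coe_pointwise_smul, conj_smul_eq_of_mem_normalizer (le_normalizer_comp ha),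
          map_mul, mul_smul, conj_smul_eq_of_mem_normalizer (le_normalizer_comp hb)]
  rcases h.simple K hK with rfl | rfl
  · exact hor.elim (fun h1 => comp_ne_bot h.nA hr (le_bot_iff.mp h1))
      (fun h1 => comp_ne_bot h.nB hs (le_bot_iff.mp h1))
  · exact hKt rfl

/-- No component of `A` normalises a nontrivial `s`-subgroup for a prime `s ∣ |B|`. -/
theorem not_normalized (h : Setup A B) {r s : ℕ} [Fact r.Prime] [Fact s.Prime]
    (hr : r ∣ Nat.card A) (hs : s ∣ Nat.card B) {S : Subgroup G} (hS : IsPGroup s S)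
    (hS0 : S ≠ ⊥) (hN : comp r A ≤ Subgroup.normalizer (S : Set G)) : False := by
  obtain ⟨Q, hQ⟩ := hS.exists_le_sylow
  obtain ⟨P, hP⟩ := h.symm.exists_sylow hs
  obtain ⟨g, rfl⟩ := MulAction.exists_smul_eq G P Q
  rw [Sylow.coe_subgroup_smul, hP] at hQ
  obtain ⟨u, hu, hus, hud⟩ := h.twoB s
  haveI := Fact.mk hu
  obtain ⟨a, ha, b, hb, rfl⟩ := h.fac g
  have hNt : Subgroup.normalizer (S : Set G) ≠ ⊤ := by
    refine h.normalizer_ne_top hS0 fun h1 => h.notsolv ?_
    subst h1
    haveI : Group.IsNilpotent G :=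
      IsPGroup.isNilpotent (hS.of_equiv Subgroup.topEquiv : IsPGroup s G)
    infer_instance
  refine h.not_both hr hud (X := MulAut.conj a⁻¹ • Subgroup.normalizer (S : Set G)) ?_
    (fun x hx => ?_) (fun x hx => ?_)
  · intro ht
    apply hNt
    rw [eq_inv_smul_iff.mpr ht, ← map_inv, conj_smul_top]
  · rw [mem_conj, inv_inv]
    exact hN (conj_mem_comp ha hx)
  · rw [mem_conj, inv_inv]
    refine Subgroup.centralizer_le_normalizer _ ?_
    rw [Subgroup.mem_centralizer_iff]
    intro y hy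
    have hy' : (a * b)⁻¹ * y * (a * b) ∈ comp s B := mem_conj.mp (hQ hy)
    have hx' : b⁻¹ * x * b ∈ comp u B := by simpa using conj_mem_comp (inv_mem hb) hx
    have e := Subgroup.mem_centralizer_iff.mp
      (comp_le_centralizer (p := u) h.nB hus comp_le isPGroup_comp hx') _ hy'
    refine mul_left_cancel (a := (a * b)⁻¹) (mul_right_cancel (b := a * b) ?_)
    calc (a * b)⁻¹ * (y * (a * x * a⁻¹)) * (a * b)
        = (a * b)⁻¹ * y * (a * b) * (b⁻¹ * x * b) := by group
      _ = b⁻¹ * x * b * ((a * b)⁻¹ * y * (a * b)) := e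
      _ = (a * b)⁻¹ * (a * x * a⁻¹ * y) * (a * b) := by group

theorem exists_ge_right (h : Setup A B) {H : Subgroup G} (hH : H ≠ ⊤)
    (hf : ∀ x ∈ H, ∃ a ∈ H ⊓ A, ∃ b ∈ H ⊓ B, x = a * b) {s : ℕ} [Fact s.Prime]
    (hs : s ∣ Nat.card B) (hsH : comp s B ≤ H) :
    ∃ X : Subgroup G, X ≠ ⊤ ∧ B ≤ X ∧ A ⊓ H ≤ X := by
  haveI := h.ind H hH hf
  have hcore : ∀ t : ℕ, t.Prime → comp t H ≤ B := by
    intro t ht
    haveI := Fact.mk ht
    by_cases hd : t ∣ Nat.card A
    · by_cases h0 : comp t H = ⊥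
      · exact h0 ▸ bot_le
      · exact (h.symm.not_normalized hs hd isPGroup_comp h0
          (hsH.trans le_normalizer_comp)).elim
    · obtain ⟨k, hk⟩ := IsPGroup.iff_card.mp (isPGroup_comp (p := t) (A := H))
      exact le_right_of_coprime comp_le le_normalizer_comp hf
        (hk ▸ (ht.coprime_iff_not_dvd.mpr hd).pow_left k) h.cop
  have h0 : comp s H ≠ ⊥ := by
    intro h0
    refine comp_ne_bot h.nB hs (le_bot_iff.mp fun x hx => ?_)
    obtain ⟨k, hk⟩ := orderOf_mem_comp hx
    rw [← h0]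
    refine mem_comp_of_commutes (hsH hx) hk fun t ht y hy => ?_
    haveI := Fact.mk ht
    by_cases hts : t = s
    · subst hts
      rw [h0, Subgroup.mem_bot] at hy
      rw [hy, one_mul, mul_one]
    · exact (Subgroup.mem_centralizer_iff.mp
        (comp_le_centralizer h.nB (Ne.symm hts) (hcore t ht) isPGroup_comp hx) y hy).symm
  refine ⟨Subgroup.normalizer (comp s H : Set G),
    h.normalizer_ne_top h0 (fun h1 => hH (top_le_iff.mp (h1 ▸ comp_le))), ?_,
    inf_le_right.trans le_normalizer_comp⟩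
  refine le_of_comp_le h.nB fun u hu _ => ?_
  haveI := Fact.mk hu
  by_cases hus : u = s
  · subst hus
    exact hsH.trans le_normalizer_comp
  · exact (comp_le_centralizer h.nB hus (hcore s Fact.out) isPGroup_comp).trans
      (Subgroup.centralizer_le_normalizer _)

theorem centralizer_central (h : Setup A B) {z : G} (hz : z ∈ A) (hz1 : z ≠ 1)
    (hzc : ∀ a ∈ A, a * z = z * a) {g : G} (hg : g * z = z * g) : g ∈ A := by
  obtain ⟨a, ha, b, hb, rfl⟩ := h.fac g
  suffices hb1 : b = 1 by rw [hb1, mul_one]; exact ha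
  have hbz : b * z = z * b := by
    apply mul_left_cancel (a := a)
    rw [← mul_assoc, hg, ← mul_assoc, ← hzc a ha, mul_assoc]
  by_contra hb1
  obtain ⟨q, hq, hqd⟩ := Nat.exists_prime_and_dvd (orderOf_eq_one_iff.not.mpr hb1)
  haveI := Fact.mk hq
  obtain ⟨k, hk⟩ := exists_pow_prime_order hqd
  set y := b ^ k
  have hy1 : y ≠ 1 := fun e => by rw [e, orderOf_one] at hk; exact hq.one_lt.ne hk
  have hyz : z * y = y * z := ((Commute.pow_left (hbz : Commute b z) k).eq).symm
  obtain ⟨s, hs, hsq, hsd⟩ := h.twoB q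
  haveI := Fact.mk hs
  set J := Subgroup.zpowers z ⊔ comp s B with hJ
  have hJc : J ≤ Subgroup.centralizer ({y} : Set G) := by
    refine sup_le (Subgroup.zpowers_le.mpr (Subgroup.mem_centralizer_singleton_iff.mpr hyz))
      fun x hx => Subgroup.mem_centralizer_singleton_iff.mpr ?_
    exact (Subgroup.mem_centralizer_iff.mp (comp_le_centralizer h.nB hsq
      (Subgroup.zpowers_le.mpr (pow_mem hb k))
      (IsPGroup.of_card (n := 1) (by rw [Nat.card_zpowers, hk, pow_one])) hx) y
      (Subgroup.mem_zpowers y)).symm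
  have hzJ : z ∈ J := Subgroup.mem_sup_left (Subgroup.mem_zpowers z)
  have hf := h.fac_normalizer (A₀ := Subgroup.zpowers z) (B₀ := comp s B)
    (Subgroup.zpowers_le.mpr hz)
    (fun a ha' => Subgroup.centralizer_le_normalizer _ (by
      rw [Subgroup.zpowers_eq_closure, Subgroup.centralizer_closure]
      exact Subgroup.mem_centralizer_singleton_iff.mpr (hzc a ha')))
    comp_le le_normalizer_comp
  rw [← hJ] at hf
  obtain ⟨X, hX, hBX, hAX⟩ := h.exists_ge_right
    (h.normalizer_ne_top (fun h0 => hz1 (Subgroup.mem_bot.mp (h0 ▸ hzJ)))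
      (fun h1 => h.centralizer_ne_top hy1 (top_le_iff.mp (h1 ▸ hJc))))
    hf hsd (le_sup_right.trans Subgroup.le_normalizer)
  have hzX : z ∈ X := hAX ⟨hz, Subgroup.le_normalizer hzJ⟩
  have hnc : Subgroup.normalClosure ({z} : Set G) ≤ X := by
    refine (Subgroup.closure_le _).mpr fun w hw => ?_
    rw [Group.mem_conjugatesOfSet_iff] at hw
    obtain ⟨z', rfl, hw⟩ := hw
    obtain ⟨c, rfl⟩ := isConj_iff.mp hw
    obtain ⟨b', hb', a', ha', rfl⟩ := Products.swap h.fac c
    have e : b' * a' * z' * (b' * a')⁻¹ = b' * z' * b'⁻¹ := by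
      rw [mul_assoc b' a' z', hzc a' ha']
      group
    rw [e]
    exact mul_mem (mul_mem (hBX hb') hzX) (inv_mem (hBX hb'))
  rcases h.simple _ (Subgroup.normalClosure_normal (s := ({z} : Set G))) with h0 | h1
  · exact hz1 (Subgroup.mem_bot.mp (h0 ▸ Subgroup.subset_normalClosure rfl))
  · exact hX (top_le_iff.mp (h1 ▸ hnc))

theorem le_normalizer_of_le (h : Setup A B) {X : Subgroup G} (hX : X ≠ ⊤) (hAX : A ≤ X) :
    X ≤ Subgroup.normalizer (A : Set G) := by
  haveI := h.ind X hX fun x hx => by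
    obtain ⟨a, ha, b, hb, rfl⟩ := h.fac x
    exact ⟨a, ⟨hAX ha, ha⟩, b, ⟨by simpa using mul_mem (inv_mem (hAX ha)) hx, hb⟩, rfl⟩
  have hcore : ∀ t : ℕ, t.Prime → comp t X ≤ A := by
    intro t ht
    haveI := Fact.mk ht
    by_cases hd : t ∣ Nat.card B
    · by_cases h0 : comp t X = ⊥
      · exact h0 ▸ bot_le
      · obtain ⟨r, hr, -, hrd⟩ := h.twoA t
        haveI := Fact.mk hr
        exact (h.not_normalized hrd hd isPGroup_comp h0
          ((comp_le.trans hAX).trans le_normalizer_comp)).elim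
    · obtain ⟨k, hk⟩ := IsPGroup.iff_card.mp (isPGroup_comp (p := t) (A := X))
      exact le_right_of_coprime comp_le le_normalizer_comp
        (fun x hx => by
          obtain ⟨b, hb, a, ha, rfl⟩ := Products.swap h.fac x
          exact ⟨b, ⟨by simpa using mul_mem hx (inv_mem (hAX ha)), hb⟩, a, ⟨hAX ha, ha⟩, rfl⟩)
        (hk ▸ (ht.coprime_iff_not_dvd.mpr hd).pow_left k) h.cop.symm
  intro x hx
  refine mem_normalizer_of_conj_mem fun a ha => ?_
  have hall : A ≤ MulAut.conj x⁻¹ • A := by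
    refine le_of_comp_le h.nA fun p hp _ => ?_
    haveI := Fact.mk hp
    intro c hc
    obtain ⟨r, hr, hrp, hrd⟩ := h.twoA p
    haveI := Fact.mk hr
    obtain ⟨z, hz, hzo, hzc⟩ := exists_central h.nA hrd
    have hz1 : z ≠ 1 := fun e => by rw [e, orderOf_one] at hzo; exact hr.one_lt.ne hzo
    have hzX : z ∈ comp r X := mem_comp_of_commutes (hAX (comp_le hz)) (k := 1)
      (by rw [hzo, pow_one]) fun t ht y hy => (hzc y (hcore t ht hy)).symm
    rw [mem_conj, inv_inv]
    refine h.centralizer_central (comp_le hz) hz1 hzc ?_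
    have hy : x⁻¹ * z * x ∈ comp r X := by simpa using conj_mem_comp (inv_mem hx) hzX
    have e := Subgroup.mem_centralizer_iff.mp
      (comp_le_centralizer h.nA (Ne.symm hrp) (hcore r hr) isPGroup_comp hc) _ hy
    apply mul_left_cancel (a := x⁻¹)
    apply mul_right_cancel (b := x)
    calc x⁻¹ * (x * c * x⁻¹ * z) * x = c * (x⁻¹ * z * x) := by group
      _ = x⁻¹ * z * x * c := e.symm
      _ = x⁻¹ * (z * (x * c * x⁻¹)) * x := by group
  have h5 := mem_conj.mp (hall ha)
  rwa [inv_inv] at h5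

theorem normalizer_comp_le (h : Setup A B) {r : ℕ} [Fact r.Prime] (hr : r ∣ Nat.card A) :
    Subgroup.normalizer (comp r A : Set G) ≤ Subgroup.normalizer (A : Set G) :=
  h.le_normalizer_of_le (h.normalizer_ne_top (comp_ne_bot h.nA hr)
    (fun h1 => h.ne_top (top_le_iff.mp (h1 ▸ comp_le)))) le_normalizer_comp

theorem factor_centralizer (h : Setup A B) {y a b : G} (hy : y ∈ B)
    (hyA : y ∈ Subgroup.normalizer (A : Set G)) (ha : a ∈ A) (hb : b ∈ B)
    (he : a * b * y = y * (a * b)) : a * y = y * a ∧ b * y = y * b := by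
  have h1 : b * y * b⁻¹ * y⁻¹ = a⁻¹ * (y * a * y⁻¹) := by
    calc b * y * b⁻¹ * y⁻¹ = a⁻¹ * (a * b * y) * b⁻¹ * y⁻¹ := by group
      _ = a⁻¹ * (y * a * y⁻¹) := by rw [he]; group
  have h2 : b * y * b⁻¹ * y⁻¹ ∈ A ⊓ B := Subgroup.mem_inf.mpr ⟨by
    rw [h1]
    exact mul_mem (inv_mem ha) ((Subgroup.mem_normalizer_iff.mp hyA a).mp ha),
    mul_mem (mul_mem (mul_mem hb hy) (inv_mem hb)) (inv_mem hy)⟩
  rw [Hall.inf_eq_bot_of_coprime h.cop, Subgroup.mem_bot, mul_inv_eq_one, mul_inv_eq_iff_eq_mul]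
    at h2
  refine ⟨?_, h2⟩
  apply mul_right_cancel (b := b)
  rw [mul_assoc, ← h2, ← mul_assoc, he, mul_assoc]

theorem mem_normalizer_right_of_commute (h : Setup A B) {q : ℕ} (hq : q.Prime) {y e : G}
    (hy : y ∈ B) (hyA : y ∈ Subgroup.normalizer (A : Set G)) (hyo : orderOf y = q) (he : e ∈ A)
    (hey : e * y = y * e) : e ∈ Subgroup.normalizer (B : Set G) := by
  haveI := Fact.mk hq
  obtain ⟨s, hs, hsq, hsd⟩ := h.twoB q
  haveI := Fact.mk hs
  obtain ⟨X, hX, hBX, hAX⟩ := h.exists_ge_right (H := Subgroup.centralizer ({y} : Set G))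
    (h.centralizer_ne_top (fun e1 => by rw [e1, orderOf_one] at hyo; exact hq.one_lt.ne hyo))
    (fun x hx => by
      obtain ⟨a, ha, b, hb, rfl⟩ := h.fac x
      obtain ⟨h1, h2⟩ := h.factor_centralizer hy hyA ha hb
        (Subgroup.mem_centralizer_singleton_iff.mp hx)
      exact ⟨a, ⟨Subgroup.mem_centralizer_singleton_iff.mpr h1, ha⟩, b,
        ⟨Subgroup.mem_centralizer_singleton_iff.mpr h2, hb⟩, rfl⟩)
    hsd (fun x hx => Subgroup.mem_centralizer_singleton_iff.mpr
      (Subgroup.mem_centralizer_iff.mp (comp_le_centralizer h.nB hsq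
        (Subgroup.zpowers_le.mpr hy)
        (IsPGroup.of_card (n := 1) (by rw [Nat.card_zpowers, hyo, pow_one])) hx) y
        (Subgroup.mem_zpowers y)).symm)
  exact h.symm.le_normalizer_of_le hX hBX
    (hAX ⟨he, Subgroup.mem_centralizer_singleton_iff.mpr hey⟩)

theorem centralizer_le_of_mem_both (h : Setup A B) {p : ℕ} (hp : p.Prime) {e : G} (he : e ∈ A)
    (heB : e ∈ Subgroup.normalizer (B : Set G)) (heo : orderOf e = p) {g : G}
    (hg : g * e = e * g) : g ∈ Subgroup.normalizer (A : Set G) := by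
  obtain ⟨b, hb, a, ha, rfl⟩ := Products.swap h.fac g
  obtain ⟨h1, -⟩ := h.symm.factor_centralizer he heB hb ha hg
  exact mul_mem (h.symm.mem_normalizer_right_of_commute hp he heB heo hb h1)
    (Subgroup.le_normalizer ha)

theorem mem_of_coprime (h : Setup A B) {m : G} (hm : m ∈ Subgroup.normalizer (A : Set G))
    (hco : (orderOf m).Coprime (Nat.card B)) : m ∈ A := by
  obtain ⟨a, ha, b, hb, he⟩ := h.fac m
  refine le_right_of_coprime (A := B) (B := A) (N := Subgroup.zpowers m ⊔ A)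
    (H := Subgroup.zpowers m ⊔ A) le_rfl Subgroup.le_normalizer
    (fun x hx => ?_) ?_ h.cop.symm (Subgroup.mem_sup_left (Subgroup.mem_zpowers m))
  · obtain ⟨b', hb', a', ha', rfl⟩ := Products.swap h.fac x
    exact ⟨b', ⟨by simpa using mul_mem hx (inv_mem (Subgroup.mem_sup_right ha')), hb'⟩, a',
      ⟨Subgroup.mem_sup_right ha', ha'⟩, rfl⟩
  · have hle : Subgroup.zpowers m ⊔ A ≤ Subgroup.normalizer (A : Set G) :=
      sup_le (Subgroup.zpowers_le.mpr hm) Subgroup.le_normalizer
    haveI := Subgroup.normal_subgroupOf_of_le_normalizer hle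
    refine Nat.Coprime.coprime_dvd_left ?_ (Nat.Coprime.mul_left hco h.cop)
    have hd := Cores.card_sup_dvd_mul
      ((Subgroup.zpowers m).subgroupOf (Subgroup.zpowers m ⊔ A))
      (A.subgroupOf (Subgroup.zpowers m ⊔ A))
    rw [← Subgroup.subgroupOf_sup le_sup_left le_sup_right, Subgroup.subgroupOf_self,
      Subgroup.card_top] at hd
    refine hd.trans (mul_dvd_mul ?_ (Subgroup.card_comap_dvd_of_injective A _
      (Subgroup.subtype_injective _)))
    refine (Subgroup.card_comap_dvd_of_injective (Subgroup.zpowers m) _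
      (Subgroup.subtype_injective _)).trans ?_
    rw [Nat.card_zpowers]

theorem centralizer_le (h : Setup A B) {p : ℕ} [Fact p.Prime] {d : G} (hd : d ∈ A)
    (hdo : orderOf d = p) :
    Subgroup.centralizer ({d} : Set G) ≤ Subgroup.normalizer (A : Set G) := by
  set X := Subgroup.centralizer ({d} : Set G) with hXdef
  set M := Subgroup.normalizer (A : Set G) with hMdef
  by_cases hcase : ∃ s : ℕ, s.Prime ∧ s ∣ Nat.card B ∧ ∃ y ∈ X, y ∈ M ∧ orderOf y = s
  · obtain ⟨s, hs, hsB, y0, hyX, hyM, hyo⟩ := hcase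
    haveI := Fact.mk hs
    have hAM : A ≤ M := Subgroup.le_normalizer
    have hfacM : ∀ g : M, ∃ a ∈ A.subgroupOf M, ∃ b ∈ B.subgroupOf M, g = a * b := by
      intro g
      obtain ⟨a, ha, b, hb, he⟩ := Products.factor_of_le h.fac hAM g
      exact ⟨a, ha, b, hb.2, he⟩
    have hcardA : Nat.card (A.subgroupOf M) = Nat.card A :=
      Nat.card_congr (Subgroup.subgroupOfEquivOfLe hAM).toEquiv
    have hdB : Nat.card (B.subgroupOf M) ∣ Nat.card B :=
      Subgroup.card_comap_dvd_of_injective B _ M.subtype_injective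
    have hcop' : (Nat.card (A.subgroupOf M)).Coprime (Nat.card (B.subgroupOf M)) :=
      hcardA ▸ h.cop.coprime_dvd_right hdB
    have hnil : Group.IsNilpotent (B.subgroupOf M) := by
      haveI := h.nB
      exact Group.nilpotent_of_mulEquiv ((Subgroup.subgroupOfEquivOfLe
        (inf_le_left : B ⊓ M ≤ B)).trans ((Subgroup.subgroupOfEquivOfLe
        (inf_le_right : B ⊓ M ≤ M)).symm.trans
          (MulEquiv.subgroupCongr (Subgroup.inf_subgroupOf_right B M))))
    have hidx : (B.subgroupOf M).index = Nat.card (A.subgroupOf M) := by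
      refine Nat.eq_of_mul_eq_mul_left (Nat.card_pos (α := B.subgroupOf M)) ?_
      rw [Subgroup.card_mul_index, mul_comm, Products.card_mul_card hfacM,
        Hall.inf_eq_bot_of_coprime hcop', Subgroup.card_bot, mul_one]
    have hsBM : s ∣ Nat.card (B.subgroupOf M) := by
      have h1 : s ∣ Nat.card M := hyo ▸ M.orderOf_dvd_natCard hyM
      rw [← (B.subgroupOf M).card_mul_index, hidx, hcardA] at h1
      exact (hs.dvd_mul.mp h1).resolve_right fun h2 =>
        hs.one_lt.ne' (Nat.eq_one_of_dvd_coprimes h.cop h2 hsB)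
    obtain ⟨⟨x, hxM⟩, hx⟩ := Cfsg.Agent.S0581.result (B.subgroupOf M)
      (Subgroup.zpowers (⟨y0, hyM⟩ : M)) hnil (hidx ▸ hcop'.symm) (fun t ht htd => by
        rw [Nat.card_zpowers, Subgroup.orderOf_mk, hyo] at htd
        rw [(Nat.prime_dvd_prime_iff_eq ht hs).mp htd]
        exact hsBM)
    have hy0 := hx (Subgroup.mem_zpowers _)
    rw [mem_conj, Subgroup.mem_subgroupOf] at hy0
    replace hy0 : x⁻¹ * y0 * x ∈ B := hy0
    obtain ⟨a, ha, b, hb, rfl⟩ := h.fac x
    set y := a⁻¹ * y0 * a with hy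
    have hyB : y ∈ B := by
      have := mul_mem (mul_mem hb hy0) (inv_mem hb)
      simpa [hy, mul_assoc] using this
    have hyA : y ∈ M := mul_mem (mul_mem (inv_mem (hAM ha)) hyM) (hAM ha)
    have hyo' : orderOf y = s := by
      rw [hy, ← hyo]
      exact orderOf_injective (MulAut.conj a⁻¹).toMonoidHom (MulEquiv.injective _) y0 |>.symm ▸
        (by simp [MulAut.conj_apply])
    set e := a⁻¹ * d * a with he
    have hey : e * y = y * e := by
      have hdy : y0 * d = d * y0 := Subgroup.mem_centralizer_singleton_iff.mp hyX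
      calc e * y = a⁻¹ * (d * y0) * a := by rw [hy, he]; group
        _ = a⁻¹ * (y0 * d) * a := by rw [hdy]
        _ = y * e := by rw [hy, he]; group
    have heA : e ∈ A := mul_mem (mul_mem (inv_mem ha) hd) ha
    have heB := h.mem_normalizer_right_of_commute hs hyB hyA hyo' heA hey
    have heo : orderOf e = p := by
      rw [he, ← hdo]
      simpa [MulAut.conj_apply] using
        orderOf_injective (MulAut.conj a⁻¹).toMonoidHom (MulEquiv.injective _) d
    intro g hg
    have hgd : g * d = d * g := Subgroup.mem_centralizer_singleton_iff.mp hg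
    have h1 : a⁻¹ * g * a ∈ M := h.centralizer_le_of_mem_both Fact.out heA heB heo (by
      calc a⁻¹ * g * a * e = a⁻¹ * (g * d) * a := by rw [he]; group
        _ = a⁻¹ * (d * g) * a := by rw [hgd]
        _ = e * (a⁻¹ * g * a) := by rw [he]; group)
    have h2 := mul_mem (mul_mem (hAM ha) h1) (inv_mem (hAM ha))
    simpa [mul_assoc] using h2
  push Not at hcase
  have hXM : X ⊓ M ≤ A := by
    intro m hm
    refine h.mem_of_coprime hm.2 (Nat.coprime_of_dvd fun t ht hto htB => ?_)
    obtain ⟨k, hk⟩ := exists_pow_prime_order hto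
    exact hcase t ht htB _ (pow_mem hm.1 k) (pow_mem hm.2 k) hk
  obtain ⟨r, hr, hrp, hrd⟩ := h.twoA p
  haveI := Fact.mk hr
  have hRX : comp r A ≤ X := fun x hx => Subgroup.mem_centralizer_singleton_iff.mpr
    (Subgroup.mem_centralizer_iff.mp (comp_le_centralizer h.nA hrp (Subgroup.zpowers_le.mpr hd)
      (IsPGroup.of_card (n := 1) (by rw [Nat.card_zpowers, hdo, pow_one])) hx) d
      (Subgroup.mem_zpowers d)).symm
  obtain ⟨P0, hP0⟩ := h.exists_sylow hrd
  set P : Sylow r X := P0.subtype (hP0 ▸ hRX) with hPdef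
  have hP : ∀ x : X, x ∈ P ↔ (x : G) ∈ comp r A := fun x => by
    rw [← hP0]; rfl
  obtain ⟨z, hz, hzo, hzc⟩ := exists_central h.nA hrd
  have hz1 : z ≠ 1 := fun e => by rw [e, orderOf_one] at hzo; exact hr.one_lt.ne hzo
  set zX : X := ⟨z, hRX hz⟩ with hzX
  have hZc : Subgroup.zpowers zX ≤ Subgroup.centralizer (P : Set X) := by
    rw [Subgroup.zpowers_le, Subgroup.mem_centralizer_iff]
    exact fun x hx => Subtype.ext (hzc x (comp_le ((hP x).mp hx)))
  -- conjugates of `z` inside `R` are equal to `z`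
  have hkey : ∀ g : G, g ∈ X → g * z * g⁻¹ ∈ comp r A → g ∈ A := by
    intro g hgX hgR
    obtain ⟨s, hs, hsr, hsd⟩ := h.twoA r
    haveI := Fact.mk hs
    refine hXM ⟨hgX, h.normalizer_comp_le hsd ?_⟩
    refine inv_inv g ▸ inv_mem (mem_normalizer_of_conj_mem fun c hc => ?_)
    rw [inv_inv]
    have e : c * (g * z * g⁻¹) = g * z * g⁻¹ * c := by
      obtain ⟨i, hi⟩ := orderOf_mem_comp hc
      obtain ⟨j, hj⟩ := orderOf_mem_comp hgR
      refine commute_of_coprime h.nA (comp_le hc) (comp_le hgR) ?_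
      rw [hi, hj]
      exact ((Nat.coprime_primes hs hr).mpr hsr).pow i j
    have hmem : g⁻¹ * c * g ∈ A := h.centralizer_central (comp_le hz) hz1 hzc (by
      calc g⁻¹ * c * g * z = g⁻¹ * (c * (g * z * g⁻¹)) * g := by group
        _ = g⁻¹ * (g * z * g⁻¹ * c) * g := by rw [e]
        _ = z * (g⁻¹ * c * g) := by group)
    obtain ⟨i, hi⟩ := orderOf_mem_comp hc
    refine mem_comp h.nA hmem (k := i) ?_
    rw [← hi]
    simpa [MulAut.conj_apply] using
      orderOf_injective (MulAut.conj g⁻¹).toMonoidHom (MulEquiv.injective _) c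
  have hW : Cfsg.IsWeaklyClosed (Subgroup.zpowers zX) (P : Subgroup X) := by
    refine ⟨(Subgroup.zpowers_le).mpr ((hP zX).mpr hz), fun g hle => ?_⟩
    rw [MonoidHom.map_zpowers] at hle ⊢
    have hm := (hP _).mp (hle (Subgroup.mem_zpowers _))
    have hgA := hkey g g.2 hm
    congr 1
    refine Subtype.ext ?_
    show (g : G) * z * (g : G)⁻¹ = z
    rw [hzc _ hgA, mul_inv_cancel_right]
  have hcomp : Cfsg.HasNormalPComplement r X := by
    refine Transfer.Fusion.hasNormalPComplement_of_controls P fun x hx g hgx => ?_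
    obtain ⟨v, hv, hve⟩ := Transfer.Fusion.controls_of_isWeaklyClosed P _ hZc hW x hx g hgx
    have hvA : (v : G) ∈ A := by
      refine hkey v v.2 ?_
      have h1 : v * zX * v⁻¹ ∈ Subgroup.zpowers zX :=
        (Subgroup.mem_normalizer_iff.mp hv zX).mp (Subgroup.mem_zpowers _)
      obtain ⟨i, hi⟩ := Subgroup.mem_zpowers_iff.mp h1
      have h2 : (v : G) * z * (v : G)⁻¹ = z ^ i := by
        have := congrArg (Subtype.val) hi.symm
        simpa [hzX] using this
      rw [h2]
      exact zpow_mem hz i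
    obtain ⟨v1, v2, hv1, hv2, hvv, -, ⟨j, hj⟩, hco⟩ :=
      Transfer.PResidual.exists_pPart_mul_pPrimePart (p := r) v (isOfFinOrder_of_finite v)
    have hsub : ∀ w ∈ Subgroup.zpowers v, (w : G) ∈ A := by
      rintro w ⟨i, rfl⟩
      simpa using zpow_mem hvA i
    obtain ⟨i, -, hi⟩ := (Nat.dvd_prime_pow hr).mp (orderOf_dvd_of_pow_eq_one hj)
    rw [← Subgroup.orderOf_coe] at hi
    refine ⟨v1, (hP v1).mpr (mem_comp h.nA (hsub v1 hv1) hi), ?_⟩
    obtain ⟨l, hl⟩ := orderOf_mem_comp ((hP x).mp hx)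
    have hcx : (v2 : G) * x = (x : G) * v2 := by
      refine commute_of_coprime h.nA (hsub v2 hv2) (comp_le ((hP x).mp hx)) ?_
      rw [hl, Subgroup.orderOf_coe]
      exact hco.pow_right l
    rw [← hve, ← hvv]
    have hcx' : v2 * x = x * v2 := Subtype.ext hcx
    calc v1 * x * v1⁻¹ = v1 * (x * v2 * v2⁻¹) * v1⁻¹ := by group
      _ = v1 * (v2 * x * v2⁻¹) * v1⁻¹ := by rw [hcx']
      _ = v1 * v2 * x * (v1 * v2)⁻¹ := by group
  have hnd : ∀ s : ℕ, s.Prime → s ∣ Nat.card B → ¬ s ∣ Nat.card X := by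
    intro s hs hsB hsX
    haveI := Fact.mk hs
    have hsr : s ≠ r := fun e => hs.one_lt.ne' (Nat.eq_one_of_dvd_coprimes h.cop (e ▸ hrd) hsB)
    set K := Cfsg.pResidual r X with hKdef
    have hrK : ¬ r ∣ Nat.card K := Transfer.PResidual.hasNormalPComplement_iff_not_dvd.mp hcomp
    obtain ⟨n, hn⟩ := Transfer.PResidual.exists_index_eq_pow (p := r) (G := X)
    have hsK : s ∣ Nat.card K := by
      rw [← K.card_mul_index, hn] at hsX
      exact (hs.dvd_mul.mp hsX).resolve_right fun h2 =>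
        hsr ((Nat.prime_dvd_prime_iff_eq hs hr).mp (hs.dvd_of_dvd_pow h2))
    obtain ⟨Q⟩ := (inferInstance : Nonempty (Sylow s K))
    set Q' : Subgroup X := (Q : Subgroup K).map K.subtype with hQ'
    have hfr : Subgroup.normalizer (Q' : Set X) ⊔ K = ⊤ := Sylow.normalizer_sup_eq_top Q
    have hrN : r ^ (Nat.card X).factorization r ∣ Nat.card (Subgroup.normalizer (Q' : Set X)) := by
      have h1 := Cores.card_sup_dvd_mul (Subgroup.normalizer (Q' : Set X)) K
      rw [hfr, Subgroup.card_top] at h1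
      exact ((hr.coprime_iff_not_dvd.mpr hrK).pow_left _).dvd_of_dvd_mul_right
        ((Nat.ordProj_dvd _ _).trans h1)
    obtain ⟨T, hT⟩ := Sylow.exists_subgroup_card_pow_prime r hrN
    set T' : Sylow r X := Sylow.ofCard (T.map (Subgroup.normalizer (Q' : Set X)).subtype)
      (by rw [Subgroup.card_map_of_injective (Subgroup.subtype_injective _), hT]) with hT'
    obtain ⟨g, hg⟩ := MulAction.exists_smul_eq X P T'
    have hQne : (Q'.map X.subtype) ≠ ⊥ := by
      rw [Ne, Subgroup.map_eq_bot_iff_of_injective _ X.subtype_injective, hQ',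
        Subgroup.map_eq_bot_iff_of_injective _ K.subtype_injective]
      exact Q.ne_bot_of_dvd_card hsK
    refine h.not_normalized hrd hsB
      (S := MulAut.conj (g : G)⁻¹ • Q'.map X.subtype) ?_ ?_ ?_
    · exact ((Q.isPGroup'.map _).map _).map _
    · intro h0
      apply hQne
      rw [eq_inv_smul_iff.mpr h0]
      exact Subgroup.map_bot _
    · intro x hx
      refine mem_normalizer_conj ?_
      have hxT : g * ⟨x, hRX hx⟩ * g⁻¹ ∈ T' := by
        rw [← hg]
        exact Subgroup.smul_mem_pointwise_smul _ (MulAut.conj g) _ ((hP _).mpr hx)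
      obtain ⟨w, -, hw⟩ := hxT
      have hwN : g * ⟨x, hRX hx⟩ * g⁻¹ ∈ Subgroup.normalizer (Q' : Set X) := hw ▸ w.2
      have h2 := Subgroup.le_normalizer_map X.subtype (Subgroup.mem_map_of_mem X.subtype hwN)
      simpa using h2
  intro g hg
  obtain ⟨x, hx⟩ := Cfsg.Agent.S0581.result A X h.nA (h.index_eq.symm ▸ h.cop) (fun t ht htX => by
    have h1 := htX.trans (Subgroup.card_subgroup_dvd_card X)
    rw [← h.card_mul] at h1
    exact (ht.dvd_mul.mp h1).resolve_right fun h2 => hnd t ht h2 htX)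
  have hXn : Group.IsNilpotent X := Cores.isNilpotent_of_le hx (by
    haveI := h.nA
    exact Group.nilpotent_of_mulEquiv (Subgroup.equivSMul (MulAut.conj x) A))
  have hR : comp r X = comp r A := by
    have h1 : comp r A ≤ comp r X := le_comp hXn hRX isPGroup_comp
    exact (hP0 ▸ P0.is_maximal' (isPGroup_comp (p := r) (A := X)) (hP0 ▸ h1))
  exact h.normalizer_comp_le hrd (hR ▸ le_normalizer_comp hg)

theorem inf_conj_eq_bot (h : Setup A B) {g x : G} (hg : g ∉ Subgroup.normalizer (A : Set G))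
    (hx : x ∈ A) (hgx : g⁻¹ * x * g ∈ A) : x = 1 := by
  by_contra hx1
  obtain ⟨p, hp, hpd⟩ := Nat.exists_prime_and_dvd (orderOf_eq_one_iff.not.mpr hx1)
  haveI := Fact.mk hp
  obtain ⟨k, hk⟩ := exists_pow_prime_order hpd
  set d := x ^ k with hddef
  have hd : d ∈ A := pow_mem hx k
  have hgd : g⁻¹ * d * g ∈ A := by
    have := pow_mem hgx k
    rwa [show (g⁻¹ * x * g) ^ k = g⁻¹ * d * g from by
      simpa [hddef] using (conj_pow (i := k) (a := g⁻¹) (b := x))] at this
  have hpA : p ∣ Nat.card A := hk ▸ A.orderOf_dvd_natCard hd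
  obtain ⟨z, hz, hzo, hzc⟩ := exists_central h.nA hpA
  set z' := g * z * g⁻¹ with hz'
  have hzd : z' * d = d * z' := by
    calc z' * d = g * (z * (g⁻¹ * d * g)) * g⁻¹ := by rw [hz']; group
      _ = g * (g⁻¹ * d * g * z) * g⁻¹ := by rw [hzc _ hgd]
      _ = d * z' := by rw [hz']; group
  have hz'o : orderOf z' = p := by
    rw [← hzo, hz']
    simpa [MulAut.conj_apply] using
      orderOf_injective (MulAut.conj g).toMonoidHom (MulEquiv.injective _) z
  have hpB : ¬ p ∣ Nat.card B := fun h2 =>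
    hp.one_lt.ne' (Nat.eq_one_of_dvd_coprimes h.cop hpA h2)
  have hz'A : z' ∈ A := h.mem_of_coprime
    (h.centralizer_le hd hk (Subgroup.mem_centralizer_singleton_iff.mpr hzd))
    (hz'o ▸ hp.coprime_iff_not_dvd.mpr hpB)
  refine hg (mem_normalizer_of_conj_mem fun a ha => ?_)
  have hc : g * a * g⁻¹ ∈ Subgroup.centralizer ({z'} : Set G) := by
    rw [Subgroup.mem_centralizer_singleton_iff]
    calc g * a * g⁻¹ * z' = g * (a * z) * g⁻¹ := by rw [hz']; group
      _ = g * (z * a) * g⁻¹ := by rw [hzc a ha]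
      _ = z' * (g * a * g⁻¹) := by rw [hz']; group
  refine h.mem_of_coprime (h.centralizer_le hz'A hz'o hc) ?_
  have : orderOf (g * a * g⁻¹) = orderOf a := by
    simpa [MulAut.conj_apply] using
      orderOf_injective (MulAut.conj g).toMonoidHom (MulEquiv.injective _) a
  exact this ▸ h.cop.coprime_dvd_left (A.orderOf_dvd_natCard ha)

theorem card_le (h : Setup A B) : Nat.card A ≤ Nat.card B := by
  obtain ⟨g, hg⟩ : ∃ g : G, g ∉ Subgroup.normalizer (A : Set G) := by
    by_contra hc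
    push Not at hc
    exact h.normalizer_ne_top h.ne_bot h.ne_top ((Subgroup.eq_top_iff' _).mpr hc)
  have hinj : Function.Injective fun p : A × A => (p.1 : G) * g * p.2 := by
    rintro ⟨a, a'⟩ ⟨c, c'⟩ e
    replace e : (a : G) * g * a' = c * g * c' := e
    have h1 : (c : G)⁻¹ * a = g * (c' * (a' : G)⁻¹) * g⁻¹ := by
      calc (c : G)⁻¹ * a = (c : G)⁻¹ * ((a : G) * g * a') * (a' : G)⁻¹ * g⁻¹ := by group
        _ = g * (c' * (a' : G)⁻¹) * g⁻¹ := by rw [e]; group
    have h2 : (c : G)⁻¹ * a = 1 := h.inf_conj_eq_bot hg (mul_mem (inv_mem c.2) a.2) (by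
      rw [h1]
      simpa [mul_assoc] using mul_mem c'.2 (inv_mem a'.2))
    rw [inv_mul_eq_one] at h2
    rw [← h2, mul_right_inj] at e
    exact Prod.ext (Subtype.ext h2.symm) (Subtype.ext e)
  have := Nat.card_le_card_of_injective _ hinj
  rw [Nat.card_prod, ← h.card_mul] at this
  exact Nat.le_of_mul_le_mul_left this Nat.card_pos

theorem absurd' (h : Setup A B) : False := by
  have e : Nat.card A = Nat.card B := le_antisymm h.card_le h.symm.card_le
  obtain ⟨r, hr, -, hd⟩ := h.twoA 0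
  have h2 := h.cop
  rw [← e] at h2
  have h1 : Nat.card A = 1 := (Nat.coprime_self _).mp h2
  rw [h1, Nat.dvd_one] at hd
  exact hr.one_lt.ne' hd

end Setup

theorem isSolvable_of_primePow_factor (hA : Group.IsNilpotent A) (hB : Group.IsNilpotent B)
    (hcop : (Nat.card A).Coprime (Nat.card B)) (hfac : ∀ g : G, ∃ a ∈ A, ∃ b ∈ B, g = a * b)
    (hsimple : ∀ N : Subgroup G, N.Normal → N = ⊥ ∨ N = ⊤) {q : ℕ}
    (hq : ∀ r : ℕ, r.Prime → r ∣ Nat.card B → r = q) : Group.IsSolvable G := by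
  by_contra hns
  haveI : Nontrivial G := by
    by_contra hn
    rw [not_nontrivial_iff_subsingleton] at hn
    exact hns (Group.isSolvable_of_comm fun a b => Subsingleton.elim _ _)
  haveI : IsSimpleGroup G := ⟨fun N hN => hsimple N hN⟩
  by_cases hA1 : Nat.card A = 1
  · have : B = ⊤ := (Subgroup.eq_top_iff' _).mpr fun g => by
      obtain ⟨a, ha, b, hb, rfl⟩ := hfac g
      rw [Subgroup.eq_bot_iff_card A |>.mpr hA1, Subgroup.mem_bot] at ha
      rw [ha, one_mul]
      exact hb
    subst this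
    haveI := hB
    haveI : Group.IsNilpotent G := Group.nilpotent_of_mulEquiv Subgroup.topEquiv
    exact hns inferInstance
  obtain ⟨p, hp, hpd⟩ := Nat.exists_prime_and_dvd hA1
  haveI := Fact.mk hp
  obtain ⟨z, hz, hzo, hzc⟩ := exists_central hA hpd
  have hle : A ≤ Subgroup.centralizer ({z} : Set G) := fun a ha =>
    Subgroup.mem_centralizer_singleton_iff.mpr (hzc a ha)
  have hidx : A.index = Nat.card B := by
    refine Nat.eq_of_mul_eq_mul_left (Nat.card_pos (α := A)) (A.card_mul_index.trans ?_)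
    rw [Products.card_mul_card hfac, Hall.inf_eq_bot_of_coprime hcop, Subgroup.card_bot, mul_one]
  have hdvd : (Subgroup.centralizer ({z} : Set G)).index ∣ Nat.card B :=
    hidx ▸ Subgroup.index_dvd_of_le hle
  obtain ⟨k, hk⟩ : ∃ k, (Subgroup.centralizer ({z} : Set G)).index = q ^ k :=
    ⟨_, Nat.eq_prime_pow_of_unique_prime_dvd Subgroup.index_ne_zero_of_finite
      fun {r} hr hrd => hq r hr (hrd.trans hdvd)⟩
  have hne : z ≠ 1 := fun e => by rw [e, orderOf_one] at hzo; exact hp.one_lt.ne hzo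
  have hpr : (Nat.card G).Prime := by
    by_cases hqp : q.Prime
    · exact Induced.Burnside.prime_card_of_class_primePow hqp hne hk
    · refine Induced.Burnside.prime_card_of_class_primePow hp (k := 0) hne ?_
      rw [pow_zero, Nat.eq_one_iff_not_exists_prime_dvd]
      exact fun r hr hrd => hqp (hq r hr (hrd.trans hdvd) ▸ hr)
  haveI := Fact.mk hpr
  haveI : IsCyclic G := isCyclic_of_prime_card (p := Nat.card G) rfl
  exact hns inferInstance

/-- A simple group that is a product of two nilpotent subgroups of coprime orders, all of whose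
proper factorised subgroups are soluble, is soluble. -/
theorem isSolvable_of_coprime (hA : Group.IsNilpotent A) (hB : Group.IsNilpotent B)
    (hcop : (Nat.card A).Coprime (Nat.card B)) (hfac : ∀ g : G, ∃ a ∈ A, ∃ b ∈ B, g = a * b)
    (hsimple : ∀ N : Subgroup G, N.Normal → N = ⊥ ∨ N = ⊤)
    (hind : ∀ X : Subgroup G, X ≠ ⊤ → (∀ x ∈ X, ∃ a ∈ X ⊓ A, ∃ b ∈ X ⊓ B, x = a * b) →
      Group.IsSolvable X) : Group.IsSolvable G := by
  by_cases h1 : ∃ q, ∀ r : ℕ, r.Prime → r ∣ Nat.card B → r = q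
  · obtain ⟨q, hq⟩ := h1
    exact isSolvable_of_primePow_factor hA hB hcop hfac hsimple hq
  by_cases h2 : ∃ q, ∀ r : ℕ, r.Prime → r ∣ Nat.card A → r = q
  · obtain ⟨q, hq⟩ := h2
    exact isSolvable_of_primePow_factor hB hA hcop.symm (Products.swap hfac) hsimple hq
  push Not at h1 h2
  by_contra hns
  exact Setup.absurd' (A := A) (B := B)
    ⟨hA, hB, hcop, hfac, hsimple, hns, hind,
      fun p => let ⟨r, h3, h4, h5⟩ := h2 p; ⟨r, h3, h5, h4⟩,
      fun p => let ⟨r, h3, h4, h5⟩ := h1 p; ⟨r, h3, h5, h4⟩⟩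

end Cfsg.Agent.Lib.KegelWielandt
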