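import Mathlib
import Cfsg.Agent.Lib.KegelWielandt.Coprime
import Cfsg.Agent.Lib.Cores.MinNormal
import Cfsg.Agent.S0560
import Cfsg.Agent.S0566

/-!
# The theorem of Kegel and Wielandt

A finite product of two nilpotent subgroups is soluble, and (if the factorisation is proper) has a
proper normal subgroup containing one of the factors.
-/

set_option autoImplicit false
set_option linter.style.haveILetI false
set_option linter.unusedSectionVars false

open scoped Pointwise

namespace Cfsg.Agent.Lib.KegelWielandt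

universe u

variable {G : Type u} [Group G] {A B : Subgroup G}

theorem isNilpotent_subgroupOf (hA : Group.IsNilpotent A) (X : Subgroup G) :
    Group.IsNilpotent (A.subgroupOf X) := by
  haveI := Cores.isNilpotent_of_le (inf_le_left : A ⊓ X ≤ A) hA
  exact Group.nilpotent_of_mulEquiv ((Subgroup.subgroupOfEquivOfLe
    (inf_le_right : A ⊓ X ≤ X)).symm.trans
      (MulEquiv.subgroupCongr (Subgroup.inf_subgroupOf_right A X)))

theorem sup_eq_top_of_map_eq_top {M : Subgroup G} [M.Normal]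
    (h : A.map (QuotientGroup.mk' M) = ⊤) : A ⊔ M = ⊤ := by
  have := Subgroup.comap_map_eq (QuotientGroup.mk' M) A
  rw [h, Subgroup.comap_top, QuotientGroup.ker_mk'] at this
  exact this.symm

variable [Finite G]

theorem exists_sylow_eq_mul (hA : Group.IsNilpotent A) (hB : Group.IsNilpotent B)
    (hfac : ∀ g : G, ∃ a ∈ A, ∃ b ∈ B, g = a * b) (p : ℕ) [Fact p.Prime] :
    ∃ R : Sylow p G, ((R : Subgroup G) : Set G) = (comp p A : Set G) * (comp p B : Set G) := by
  obtain ⟨P, Q, R, hR⟩ := Cfsg.Agent.S0560.result A B hfac p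
  refine ⟨R, ?_⟩
  rw [hR, comp, comp, pCore_eq_sylow hA P, pCore_eq_sylow hB Q]

/-- The case `W = M R`, where a component of `A` lies in a proper normal subgroup `N` of `W`. -/
theorem component_case (hA : Group.IsNilpotent A)
    {M : Subgroup G} [hMn : M.Normal] (hmin : ∀ N : Subgroup G, N.Normal → N ≤ M → N = ⊥ ∨ N = M)
    (hC : Subgroup.centralizer (M : Set G) = ⊥) (hAM : A ⊔ M = ⊤) {p : ℕ} [Fact p.Prime]
    (hp : p ∣ Nat.card A) {R : Subgroup G} (hR : IsPGroup p R) (hcR : comp p A ≤ R)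
    {N : Subgroup G} (hN : N ≤ M ⊔ R) (hne : N ≠ M ⊔ R)
    (hnorm : M ⊔ R ≤ Subgroup.normalizer (N : Set G)) (hcN : comp p A ≤ N) : False := by
  set Q := comp p A ⊔ M with hQ
  haveI hQn : Q.Normal := by
    rw [← Subgroup.normalizer_eq_top_iff, ← top_le_iff, ← hAM]
    refine sup_le (fun a ha => ?_) (le_sup_right.trans Subgroup.le_normalizer)
    refine mem_normalizer_of_conj_mem fun x hx => ?_
    have h1 : MulAut.conj a • Q = Q := by
      rw [hQ, Subgroup.smul_sup, conj_smul_eq_of_mem_normalizer (le_normalizer_comp ha),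
        Subgroup.Normal.conj_smul_eq_self]
    rw [← h1]
    exact conj_mem_iff.mpr hx
  have hidx : ¬ p ∣ Q.index := by
    have h1 : Q.index ∣ (comp p A).relIndex A := by
      have e : Q.relIndex A = Q.index := by
        rw [← Subgroup.relIndex_sup_right, ← Subgroup.relIndex_top_right]
        congr 1
        rw [← top_le_iff, ← hAM]
        exact sup_le le_sup_left (le_sup_right.trans le_sup_right)
      exact e ▸ Subgroup.relIndex_dvd_of_le_left A le_sup_left
    intro hd
    have h2 := Subgroup.relIndex_mul_relIndex ⊥ (comp p A) A bot_le comp_le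
    rw [Subgroup.relIndex_bot_left, Subgroup.relIndex_bot_left, card_comp hA] at h2
    refine Nat.pow_succ_factorization_not_dvd (Nat.card_pos (α := A)).ne' (Fact.out : p.Prime) ?_
    rw [pow_succ]
    exact (mul_dvd_mul_left _ (hd.trans h1)).trans (dvd_of_eq h2)
  have hRQ : R ≤ Q := by
    intro x hx
    obtain ⟨k, hk⟩ := IsPGroup.iff_orderOf.mp hR ⟨x, hx⟩
    rw [Subgroup.orderOf_mk] at hk
    have h1 : orderOf (x : G ⧸ Q) ∣ p ^ k := hk ▸ orderOf_map_dvd (QuotientGroup.mk' Q) x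
    have h2 : orderOf (x : G ⧸ Q) ∣ Q.index := Subgroup.index_eq_card Q ▸ orderOf_dvd_natCard _
    have h3 := Nat.eq_one_of_dvd_coprimes
      (((Fact.out : p.Prime).coprime_iff_not_dvd.mpr hidx).pow_left k) h1 h2
    rwa [orderOf_eq_one_iff, QuotientGroup.eq_one_iff] at h3
  have hMN : ¬ M ≤ N := fun h => hne (le_antisymm hN
    (sup_le h (hRQ.trans (sup_le hcN h))))
  set M₁ := M ⊓ N with hM₁
  have hK : M₁.normalCore = ⊥ :=
    (hmin _ inferInstance ((Subgroup.normalCore_le _).trans inf_le_left)).resolve_right fun h =>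
      hMN (h ▸ (Subgroup.normalCore_le _).trans inf_le_right)
  refine comp_ne_bot hA hp (le_bot_iff.mp ?_)
  rw [← hC]
  intro c hc
  rw [Subgroup.mem_centralizer_iff]
  intro m hm
  have key : ∀ c ∈ comp p A, ∀ m ∈ M, c * m * c⁻¹ * m⁻¹ ∈ M₁ := by
    intro c hc m hm
    refine Subgroup.mem_inf.mpr ⟨mul_mem (hMn.conj_mem m hm c) (inv_mem hm), ?_⟩
    have h1 : m * c⁻¹ * m⁻¹ ∈ N := (Subgroup.mem_normalizer_iff.mp
      (hnorm (Subgroup.mem_sup_left hm)) _).mp (inv_mem (hcN hc))
    have := mul_mem (hcN hc) h1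
    simpa [mul_assoc] using this
  have h0 : c * m * c⁻¹ * m⁻¹ ∈ M₁.normalCore := by
    intro g
    obtain ⟨n, hn, a, ha, rfl⟩ :=
      Subgroup.mem_sup_of_normal_left.mp (show g ∈ M ⊔ A by rw [sup_comm, hAM]; trivial)
    have h1 := key (a * c * a⁻¹) (conj_mem_comp ha hc) (a * m * a⁻¹) (hMn.conj_mem m hm a)
    have h2 : n * (a * (c * m * c⁻¹ * m⁻¹) * a⁻¹) * n⁻¹ ∈ M₁ := by
      have h3 : a * (c * m * c⁻¹ * m⁻¹) * a⁻¹ ∈ M₁ := by
        simpa [mul_assoc] using h1
      exact Subgroup.mem_inf.mpr ⟨hMn.conj_mem _ h3.1 n,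
        (Subgroup.mem_normalizer_iff.mp (hnorm (Subgroup.mem_sup_left hn)) _).mp h3.2⟩
    simpa [mul_assoc] using h2
  rw [hK, Subgroup.mem_bot, mul_inv_eq_one, mul_inv_eq_iff_eq_mul] at h0
  exact h0.symm

theorem isSolvable_aux : ∀ (n : ℕ) {G : Type u} [Group G] [Finite G] (A B : Subgroup G),
    Nat.card G = n → Group.IsNilpotent A → Group.IsNilpotent B →
    (∀ g : G, ∃ a ∈ A, ∃ b ∈ B, g = a * b) → Group.IsSolvable G := by
  intro n
  induction n using Nat.strong_induction_on with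
  | _ n ih =>
  intro G _ _ A B hn hA hB hfac
  by_contra hns
  haveI : Nontrivial G := by
    by_contra hc
    rw [not_nontrivial_iff_subsingleton] at hc
    exact hns (Group.isSolvable_of_comm fun a b => Subsingleton.elim _ _)
  have hind : ∀ X : Subgroup G, X ≠ ⊤ → (∀ x ∈ X, ∃ a ∈ X ⊓ A, ∃ b ∈ X ⊓ B, x = a * b) →
      Group.IsSolvable X := by
    intro X hX hf
    refine ih (Nat.card X) ?_ (A.subgroupOf X) (B.subgroupOf X) rfl (isNilpotent_subgroupOf hA X)
      (isNilpotent_subgroupOf hB X) fun g => ?_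
    · refine hn ▸ lt_of_le_of_ne (Subgroup.card_le_card_group X) fun e => hX ?_
      exact Subgroup.eq_top_of_card_eq X e
    · obtain ⟨a, ha, b, hb, he⟩ := hf g g.2
      exact ⟨⟨a, ha.1⟩, ha.2, ⟨b, hb.1⟩, hb.2, Subtype.ext he⟩
  have hquot : ∀ (K : Subgroup G) [K.Normal], K ≠ ⊥ → Group.IsSolvable (G ⧸ K) :=
    fun K _ hK => ih _ (hn ▸ Hall.card_quotient_lt hK) (A.map (QuotientGroup.mk' K))
      (B.map (QuotientGroup.mk' K)) rfl (Cores.isNilpotent_map _ hA) (Cores.isNilpotent_map _ hB)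
      (Products.map_factor _ (QuotientGroup.mk'_surjective K) hfac)
  obtain ⟨M, hMn, hM0, hmin⟩ := Cores.MinNormal.exists_minimal (G := G)
  haveI := hMn
  have hMns : ¬ Group.IsSolvable M := fun h =>
    hns ((Group.isSolvable_iff_subgroup_quotient M).mpr ⟨h, hquot M hM0⟩)
  have hC : Subgroup.centralizer (M : Set G) = ⊥ := by
    by_contra hC0
    refine hMns ?_
    haveI := hquot _ hC0
    rcases hmin (M ⊓ Subgroup.centralizer (M : Set G)) inferInstance inf_le_left with h | h
    · refine Group.isSolvable_of_isSolvable_injective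
        (f := (QuotientGroup.mk' (Subgroup.centralizer (M : Set G))).comp M.subtype) ?_
      rw [injective_iff_map_eq_one]
      intro x hx
      have : (x : G) ∈ M ⊓ Subgroup.centralizer (M : Set G) :=
        Subgroup.mem_inf.mpr ⟨x.2, (QuotientGroup.eq_one_iff _).mp hx⟩
      rw [h, Subgroup.mem_bot] at this
      exact Subtype.ext this
    · exact Group.isSolvable_of_comm fun a b => Subtype.ext
        (Subgroup.mem_centralizer_iff.mp ((inf_eq_left.mp h) b.2) a a.2)
  -- a subgroup containing `M` and a factor is the whole group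
  have hbig : ∀ {A' B' : Subgroup G}, (∀ g : G, ∃ a ∈ A', ∃ b ∈ B', g = a * b) →
      (∀ X : Subgroup G, X ≠ ⊤ → (∀ x ∈ X, ∃ a ∈ X ⊓ A', ∃ b ∈ X ⊓ B', x = a * b) →
        Group.IsSolvable X) → A' ⊔ M = ⊤ := by
    intro A' B' hf hi
    by_contra hne
    haveI := hi _ hne fun x hx => by
      obtain ⟨a, ha, b, hb, rfl⟩ := hf x
      exact ⟨a, ⟨Subgroup.mem_sup_left ha, ha⟩, b,
        ⟨by simpa using mul_mem (inv_mem (Subgroup.mem_sup_left ha)) hx, hb⟩, rfl⟩
    exact hMns (Group.isSolvable_of_isSolvable_injective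
      (Subgroup.inclusion_injective (le_sup_right : M ≤ A' ⊔ M)))
  have hAM : A ⊔ M = ⊤ := hbig hfac hind
  have hBM : B ⊔ M = ⊤ := hbig (Products.swap hfac) fun X hX hf => hind X hX fun x hx => by
    obtain ⟨b, hb, a, ha, he⟩ := hf x⁻¹ (inv_mem hx)
    exact ⟨a⁻¹, inv_mem ha, b⁻¹, inv_mem hb, by rw [← mul_inv_rev, ← he, inv_inv]⟩
  by_cases hcop : (Nat.card A).Coprime (Nat.card B)
  · by_cases hMt : M = ⊤
    · refine hns (isSolvable_of_coprime hA hB hcop hfac (fun N hN => ?_) hind)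
      exact (hmin N hN (hMt ▸ le_top)).imp id fun h => h.trans hMt
    · refine hMns (hind M hMt fun x hx => ?_)
      obtain ⟨a, ha, b, hb, rfl⟩ := hfac x
      have h1 : (a : G ⧸ M) = (b : G ⧸ M)⁻¹ := by
        rw [eq_inv_iff_mul_eq_one, ← QuotientGroup.mk_mul, QuotientGroup.eq_one_iff]
        exact hx
      have h2 : orderOf (a : G ⧸ M) = 1 := by
        refine Nat.eq_one_of_dvd_coprimes hcop ?_ ?_
        · exact (orderOf_map_dvd (QuotientGroup.mk' M) a).trans (A.orderOf_dvd_natCard ha)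
        · rw [h1, orderOf_inv]
          exact (orderOf_map_dvd (QuotientGroup.mk' M) b).trans (B.orderOf_dvd_natCard hb)
      rw [orderOf_eq_one_iff, QuotientGroup.eq_one_iff] at h2
      exact ⟨a, ⟨h2, ha⟩, b, ⟨by simpa using mul_mem (inv_mem h2) hx, hb⟩, rfl⟩
  obtain ⟨p, hp, hpA, hpB⟩ := Nat.Prime.not_coprime_iff_dvd.mp hcop
  haveI := Fact.mk hp
  obtain ⟨R, hR⟩ := exists_sylow_eq_mul hA hB hfac p
  have hAR : comp p A ≤ (R : Subgroup G) := fun x hx => by
    rw [← SetLike.mem_coe, hR]; exact ⟨x, hx, 1, one_mem _, mul_one x⟩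
  have hBR : comp p B ≤ (R : Subgroup G) := fun x hx => by
    rw [← SetLike.mem_coe, hR]; exact ⟨1, one_mem _, x, hx, one_mul x⟩
  set W := M ⊔ (R : Subgroup G) with hW
  have hbot : ∀ {C : Subgroup G}, C ≤ W → C ≠ ⊥ → C.subgroupOf W ≠ ⊥ := fun {C} hC hne h => by
    rw [Subgroup.subgroupOf_eq_bot, disjoint_iff, inf_of_le_left hC] at h
    exact hne h
  obtain ⟨N, hNn, hNt, hor⟩ := Cfsg.Agent.S0566.aux ((comp p A).subgroupOf W)
    ((comp p B).subgroupOf W) (hbot (hAR.trans le_sup_right) (comp_ne_bot hA hpA))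
    (hbot (hBR.trans le_sup_right) (comp_ne_bot hB hpB)) fun x => by
      obtain ⟨a, ha, b, hb, he⟩ := hfac x
      have hRa : ((MulAut.conj a • (R : Subgroup G) : Subgroup G) : Set G) =
          (comp p A : Set G) * ((MulAut.conj (x : G) • comp p B : Subgroup G) : Set G) := by
        rw [Subgroup.coe_pointwise_smul, hR, smul_mul', ← Subgroup.coe_pointwise_smul,
          ← Subgroup.coe_pointwise_smul, conj_smul_eq_of_mem_normalizer (le_normalizer_comp ha),
          he, map_mul, mul_smul, conj_smul_eq_of_mem_normalizer (le_normalizer_comp hb)]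
      refine ⟨(MulAut.conj a • (R : Subgroup G)).subgroupOf W, fun ht => hMns ?_, ?_⟩
      · have h1 : IsPGroup p M := (R.isPGroup'.map (MulAut.conj a).toMonoidHom).to_le
          (le_sup_left.trans (Subgroup.subgroupOf_eq_top.mp ht))
        haveI := h1.isNilpotent
        infer_instance
      · ext y
        rw [SetLike.mem_coe, Subgroup.mem_subgroupOf, ← SetLike.mem_coe, hRa]
        constructor
        · rintro ⟨c, hc, d, hd, hy⟩
          have hdW : d ∈ W := by
            have h1 := mem_conj.mp hd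
            have h2 := mul_mem (mul_mem x.2 (hBR.trans le_sup_right h1 : (x : G)⁻¹ * d * x ∈ W))
              (inv_mem x.2)
            simpa [mul_assoc] using h2
          refine ⟨⟨c, hAR.trans le_sup_right hc⟩, hc, ⟨d, hdW⟩, ?_, Subtype.ext hy⟩
          rw [SetLike.mem_coe, mem_conj, Subgroup.mem_subgroupOf]
          exact mem_conj.mp hd
        · rintro ⟨c, hc, d, hd, rfl⟩
          rw [SetLike.mem_coe, mem_conj, Subgroup.mem_subgroupOf] at hd
          exact ⟨c, hc, d, mem_conj.mpr hd, rfl⟩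
  have hNW : N.map W.subtype ≤ W := Subgroup.map_subtype_le N
  have hnorm : W ≤ Subgroup.normalizer ((N.map W.subtype : Subgroup G) : Set G) := by
    refine le_trans ?_ (Subgroup.le_normalizer_map W.subtype)
    rw [Subgroup.normalizer_eq_top, ← MonoidHom.range_eq_map, Subgroup.range_subtype]
  have hne : N.map W.subtype ≠ W := fun h => hNt (Subgroup.map_injective W.subtype_injective
    (by rw [h, ← MonoidHom.range_eq_map, Subgroup.range_subtype]))
  rcases hor with h | h
  · refine component_case hA hmin hC hAM hpA R.isPGroup' hAR hNW hne hnorm ?_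
    rw [← Subgroup.map_subgroupOf_eq_of_le (hAR.trans le_sup_right : comp p A ≤ W)]
    exact Subgroup.map_mono h
  · refine component_case hB hmin hC hBM hpB R.isPGroup' hBR hNW hne hnorm ?_
    rw [← Subgroup.map_subgroupOf_eq_of_le (hBR.trans le_sup_right : comp p B ≤ W)]
    exact Subgroup.map_mono h

/-- **Kegel–Wielandt**: a finite product of two nilpotent subgroups is soluble. -/
theorem isSolvable (hA : Group.IsNilpotent A) (hB : Group.IsNilpotent B)
    (hfac : ∀ g : G, ∃ a ∈ A, ∃ b ∈ B, g = a * b) : Group.IsSolvable G :=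
  isSolvable_aux _ A B rfl hA hB hfac

theorem exists_normal_of_isNilpotent [Group.IsNilpotent G] {A : Subgroup G} (hA : A ≠ ⊤) :
    ∃ N : Subgroup G, N.Normal ∧ N ≠ ⊤ ∧ A ≤ N := by
  obtain ⟨N, hN, hle⟩ := (eq_top_or_exists_le_coatom A).resolve_left hA
  exact ⟨N, Subgroup.NormalizerCondition.normal_of_coatom N Group.normalizerCondition_of_isNilpotent hN,
    hN.1, hle⟩

/-- A proper factor complementing an abelian minimal normal subgroup is maximal. -/
theorem eq_of_le_of_ne_top {M : Subgroup G} [hMn : M.Normal]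
    (hab : ∀ a ∈ M, ∀ b ∈ M, a * b = b * a)
    (hmin : ∀ N : Subgroup G, N.Normal → N ≤ M → N = ⊥ ∨ N = M) (hAM : A ⊔ M = ⊤)
    {X : Subgroup G} (hAX : A ≤ X) (hX : X ≠ ⊤) : X = A := by
  have hn : (X ⊓ M).Normal := by
    rw [← Subgroup.normalizer_eq_top_iff, ← top_le_iff, ← hAM]
    refine sup_le (fun a ha => mem_normalizer_of_conj_mem fun x hx => ?_)
      (fun m hm => mem_normalizer_of_conj_mem fun x hx => ?_)
    · exact Subgroup.mem_inf.mpr ⟨mul_mem (mul_mem (hAX ha) hx.1) (inv_mem (hAX ha)),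
        hMn.conj_mem x hx.2 a⟩
    · rw [hab m hm x hx.2, mul_inv_cancel_right]
      exact hx
  rcases hmin _ hn inf_le_right with h | h
  · refine le_antisymm (fun x hx => ?_) hAX
    obtain ⟨a, ha, m, hm, rfl⟩ := Subgroup.mem_sup_of_normal_right.mp
      (show x ∈ A ⊔ M by rw [hAM]; trivial)
    have : m ∈ X ⊓ M := Subgroup.mem_inf.mpr ⟨by simpa using mul_mem (inv_mem (hAX ha)) hx, hm⟩
    rw [h, Subgroup.mem_bot] at this
    rw [this, mul_one]
    exact ha
  · exact absurd (top_le_iff.mp (hAM ▸ sup_le hAX (inf_eq_right.mp h))) hX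

theorem exists_normal_aux : ∀ (n : ℕ) {G : Type u} [Group G] [Finite G] (A B : Subgroup G),
    Nat.card G = n → Group.IsNilpotent A → Group.IsNilpotent B →
    (∀ g : G, ∃ a ∈ A, ∃ b ∈ B, g = a * b) → (A ≠ ⊤ ∨ B ≠ ⊤) →
    ∃ N : Subgroup G, N.Normal ∧ N ≠ ⊤ ∧ (A ≤ N ∨ B ≤ N) := by
  intro n
  induction n using Nat.strong_induction_on with
  | _ n ih =>
  intro G _ _ A B hn hA hB hfac hprop
  by_cases hnil : Group.IsNilpotent G
  · rcases hprop with h | h
    · obtain ⟨N, h1, h2, h3⟩ := exists_normal_of_isNilpotent h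
      exact ⟨N, h1, h2, Or.inl h3⟩
    · obtain ⟨N, h1, h2, h3⟩ := exists_normal_of_isNilpotent h
      exact ⟨N, h1, h2, Or.inr h3⟩
  have hAt : A ≠ ⊤ := by
    rintro rfl
    exact hnil (Group.nilpotent_of_mulEquiv Subgroup.topEquiv)
  have hBt : B ≠ ⊤ := by
    rintro rfl
    exact hnil (Group.nilpotent_of_mulEquiv Subgroup.topEquiv)
  haveI : Nontrivial G := by
    by_contra hc
    rw [not_nontrivial_iff_subsingleton] at hc
    exact hAt (Subsingleton.elim _ _)
  haveI := isSolvable hA hB hfac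
  -- passing to a proper quotient
  have hlift : ∀ (K : Subgroup G) [K.Normal], K ≠ ⊥ → (A ⊔ K ≠ ⊤ ∨ B ⊔ K ≠ ⊤) →
      ∃ N : Subgroup G, N.Normal ∧ N ≠ ⊤ ∧ (A ≤ N ∨ B ≤ N) := by
    intro K _ hK hor
    obtain ⟨N, hN, hNt, hN'⟩ := ih _ (hn ▸ Hall.card_quotient_lt hK)
      (A.map (QuotientGroup.mk' K)) (B.map (QuotientGroup.mk' K)) rfl
      (Cores.isNilpotent_map _ hA) (Cores.isNilpotent_map _ hB)
      (Products.map_factor _ (QuotientGroup.mk'_surjective K) hfac)
      (hor.imp (mt sup_eq_top_of_map_eq_top) (mt sup_eq_top_of_map_eq_top))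
    exact ⟨N.comap (QuotientGroup.mk' K), inferInstance,
      fun h => hNt (Subgroup.comap_injective (QuotientGroup.mk'_surjective K)
        (h.trans (Subgroup.comap_top _).symm)),
      hN'.imp Subgroup.map_le_iff_le_comap.mp Subgroup.map_le_iff_le_comap.mp⟩
  obtain ⟨M, hMn, hM0, hmin⟩ := Cores.MinNormal.exists_minimal (G := G)
  haveI := hMn
  obtain ⟨hcomm, p, hp, hexp⟩ := Cores.MinNormal.elementary_of_solvable hM0 hmin
  haveI := Fact.mk hp
  have hab : ∀ a ∈ M, ∀ b ∈ M, a * b = b * a := fun a ha b hb =>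
    congrArg Subtype.val (mul_comm' (⟨a, ha⟩ : M) ⟨b, hb⟩)
  by_cases hor : A ⊔ M ≠ ⊤ ∨ B ⊔ M ≠ ⊤
  · exact hlift M hM0 hor
  push Not at hor
  obtain ⟨hAM, hBM⟩ := hor
  obtain ⟨k, hk⟩ := IsPGroup.iff_card.mp (Cores.MinNormal.isPGroup_of_pow_eq_one hexp)
  have hdvd : ∀ {C : Subgroup G}, C ⊔ M = ⊤ → Nat.card G ∣ Nat.card C * p ^ k := fun {C} hC => by
    have h := Cores.card_sup_dvd_mul C M
    rwa [hC, Subgroup.card_top, hk] at h
  obtain ⟨q, hq, hqp, hqA⟩ : ∃ q, q.Prime ∧ q ≠ p ∧ q ∣ Nat.card A := by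
    by_contra hc
    push Not at hc
    refine hnil ?_
    have hG : ∀ t : ℕ, t.Prime → t ∣ Nat.card G → t = p := by
      intro t ht htd
      rcases ht.dvd_mul.mp (htd.trans (hdvd hAM)) with h | h
      · exact of_not_not fun htp => hc t ht htp h
      · exact (Nat.prime_dvd_prime_iff_eq ht hp).mp (ht.dvd_of_dvd_pow h)
    exact (IsPGroup.of_card (Nat.eq_prime_pow_of_unique_prime_dvd Nat.card_pos.ne'
      fun {t} ht htd => hG t ht htd)).isNilpotent
  haveI := Fact.mk hq
  have hcq : ¬ q ∣ p ^ k := fun h => hqp ((Nat.prime_dvd_prime_iff_eq hq hp).mp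
    (hq.dvd_of_dvd_pow h))
  have hsyl : ∀ {C : Subgroup G}, Group.IsNilpotent C → C ⊔ M = ⊤ →
      ∃ P : Sylow q G, (P : Subgroup G) = comp q C := fun {C} hC hCM => by
    refine ⟨Sylow.ofCard (comp q C) ?_, rfl⟩
    rw [card_comp hC]
    congr 1
    refine le_antisymm ?_ ?_
    · exact (Nat.factorization_le_iff_dvd Nat.card_pos.ne' Nat.card_pos.ne').mpr
        (Subgroup.card_subgroup_dvd_card C) q
    · have h := (Nat.factorization_le_iff_dvd Nat.card_pos.ne'
        (mul_ne_zero Nat.card_pos.ne' (pow_ne_zero _ hp.ne_zero))).mpr (hdvd hCM) q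
      rwa [Nat.factorization_mul Nat.card_pos.ne' (pow_ne_zero _ hp.ne_zero), Finsupp.add_apply,
        Nat.factorization_eq_zero_of_not_dvd hcq, add_zero] at h
  obtain ⟨P, hP⟩ := hsyl hA hAM
  obtain ⟨Q, hQ⟩ := hsyl hB hBM
  obtain ⟨g, hg⟩ := MulAction.exists_smul_eq G P Q
  have hgQ : MulAut.conj g • comp q A = comp q B := by
    rw [← hP, ← hQ, ← hg]; rfl
  have hA0 : comp q A ≠ ⊥ := comp_ne_bot hA hqA
  by_cases hnorm : (comp q A).Normal
  · exact hlift _ hA0 (Or.inl (by rwa [sup_eq_left.mpr comp_le]))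
  have hNA : Subgroup.normalizer (comp q A : Set G) = A := eq_of_le_of_ne_top hab hmin hAM
    le_normalizer_comp fun h => hnorm (Subgroup.normalizer_eq_top_iff.mp h)
  have hnormB : Subgroup.normalizer (comp q B : Set G) ≠ ⊤ := fun h => hnorm (by
    haveI := Subgroup.normalizer_eq_top_iff.mp h
    rw [eq_inv_smul_iff.mpr hgQ, ← map_inv, Subgroup.Normal.conj_smul_eq_self]
    infer_instance)
  have hNB : Subgroup.normalizer (comp q B : Set G) = B :=
    eq_of_le_of_ne_top hab hmin hBM le_normalizer_comp hnormB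
  have hgA : g ∈ A := by
    obtain ⟨a, ha, b, hb, he⟩ := hfac g⁻¹
    have hb' : g⁻¹ * b * g ∈ A := by
      rw [← hNA]
      rw [← hNB] at hb
      refine mem_normalizer_of_conj_mem fun x hx => ?_
      have h1 : g * x * g⁻¹ ∈ comp q B := by rw [← hgQ]; exact conj_mem_iff.mpr hx
      have h2 := (Subgroup.mem_normalizer_iff.mp hb _).mp h1
      rw [← hgQ, mem_conj] at h2
      simpa [mul_assoc] using h2
    have h3 : g = a⁻¹ * (g⁻¹ * b * g)⁻¹ := by
      have h4 : b = a⁻¹ * g⁻¹ := by rw [he]; group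
      rw [h4]; group
    rw [h3]
    exact mul_mem (inv_mem ha) (inv_mem hb')
  exfalso
  have hBA : B = A := by
    rw [← hNB, ← hgQ, conj_smul_eq_of_mem_normalizer (le_normalizer_comp hgA), hNA]
  refine hAt ((Subgroup.eq_top_iff' A).mpr fun x => ?_)
  obtain ⟨a, ha, b, hb, rfl⟩ := hfac x
  exact mul_mem ha (hBA ▸ hb)

/-- A properly factorised product of two nilpotent subgroups has a proper normal subgroup
containing one of the factors. -/
theorem exists_normal (hA : Group.IsNilpotent A) (hB : Group.IsNilpotent B)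
    (hfac : ∀ g : G, ∃ a ∈ A, ∃ b ∈ B, g = a * b) (hprop : A ≠ ⊤ ∨ B ≠ ⊤) :
    ∃ N : Subgroup G, N.Normal ∧ N ≠ ⊤ ∧ (A ≤ N ∨ B ≤ N) :=
  exists_normal_aux _ A B rfl hA hB hfac hprop

end Cfsg.Agent.Lib.KegelWielandt
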